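import Groth.Agent.AlgSp.K625.Prod
import Groth.Agent.AlgSp.K610.FinQuot
import Groth.Agent.AlgSp.K610.SchLocus
import Groth.Agent.AlgSp.K621.Base
import Groth.Agent.FlatA.FinsetAffine

/-!
Points whose fibre in a finite locally free cover by a scheme lies in an affine open (helper625).
-/

set_option autoImplicit false
universe u
open CategoryTheory CategoryTheory.Limits AlgebraicGeometry Topology TopologicalSpace Opposite
open AlgSp

namespace K625.FibAff

variable {S : Scheme.{u}}

/-- A finite locally free surjective chart by an open subscheme of an affine scheme: the space is a scheme. -/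
theorem exists_iso_of_finite_chart {X : Sp S} {V : Over S} {a : (yon S).obj V ⟶ X}
    (h1 : RepWith @IsFinite a) (h2 : RepWith @Flat a) (h2' : RepWith @LocallyOfFinitePresentation a)
    (h3 : RepWith @Surjective a)
    {Y : Scheme.{u}} [IsAffine Y] (i : V.left ⟶ Y) [IsOpenImmersion i] :
    ∃ M : Over S, Nonempty ((yon S).obj M ≅ X) := by
  obtain ⟨M, m, e, -⟩ := K610.FinQuot.exists_iso h1 h2 h2' h3 (fun x => by
    obtain ⟨R, fst, snd, sq, hf⟩ := K621.Base.exists_pullback_of_repWith h1 a
    have hfin : (snd.left ⁻¹' {x}).Finite := Scheme.Hom.finite_preimage_singleton snd.left x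
    obtain ⟨W, hW, hWx⟩ := Groth.Agent.FlatA.FinsetAffine.exists_isAffineOpen i
      ((hfin.image fst.left).toFinset)
    refine ⟨W, hW, fun y hy => hWx y ?_⟩
    obtain ⟨r, hr1, hr2⟩ := K621.Base.exists_point_of_isPullback sq y x hy
    rw [Set.Finite.mem_toFinset]
    exact ⟨r, hr2, hr1⟩)
  exact ⟨M, ⟨e⟩⟩

/-- If the fibre over `x` of a finite locally free cover by a scheme is contained in an affine open, then `x` is in
the schematic locus. -/
theorem isSch_of_fibre (X : Space S) {M : Over S} (p : (yon S).obj M ⟶ X.obj)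
    (h1 : RepWith @IsFinite p) (h2 : RepWith @Flat p) (h2' : RepWith @LocallyOfFinitePresentation p)
    (h3 : RepWith @Surjective p) (W : M.left.Opens) (hW : IsAffineOpen W) (x : Points X.obj)
    (hx : ∀ m : ↥M.left, Points.ofPt p m = x → m ∈ W) :
    ∃ O, K610.SchLocus.IsSch X.obj O ∧ x ∈ O := by
  have hcl : RepWith @UniversallyClosed p :=
    K610.Base.repWith_mono (fun _ _ f (_ : IsFinite f) => (inferInstance : UniversallyClosed f)) h1
  have hcm : IsClosedMap (Points.map p) := K625.Prod.isClosedMap_of_repWith hcl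
  let Z : Set (Points X.obj) := Points.ofPt p '' (W : Set ↥M.left)ᶜ
  have hZ : IsClosed Z := by
    have h : Z = Points.map p '' (Points.ofScheme M '' (W : Set ↥M.left)ᶜ) := by
      rw [Set.image_image]
      exact Set.image_congr fun m _ => Points.ofPt_eq_map_ofScheme p m
    rw [h]
    refine hcm _ ?_
    exact (Points.schemeHomeo M).isClosedMap _ W.isOpen.isClosed_compl
  have hxZ : x ∉ Z := by
    rintro ⟨m, hm, rfl⟩
    exact hm (hx m rfl)
  obtain ⟨X', j, hj, hr⟩ := K610.Sub.exists_open_subspace X Zᶜ hZ.isOpen_compl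
  have sq := hj.1.isPullback p
  set N := hj.1.pullback p
  set snd : N ⟶ M := hj.1.snd p
  set fst := hj.1.fst p
  have hsnd : IsOpenImmersion snd.left := hj.2 _ _ _ sq
  have f1 : RepWith @IsFinite fst := MorphismProperty.of_isPullback (P := RepWith @IsFinite) sq.flip h1
  have f2 : RepWith @Flat fst := MorphismProperty.of_isPullback (P := RepWith @Flat) sq.flip h2
  have f2' : RepWith @LocallyOfFinitePresentation fst :=
    MorphismProperty.of_isPullback (P := RepWith @LocallyOfFinitePresentation) sq.flip h2'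
  have f3 : RepWith @Surjective fst := MorphismProperty.of_isPullback (P := RepWith @Surjective) sq.flip h3
  have hrange : Set.range snd.left ⊆ (W : Set ↥M.left) := by
    rintro _ ⟨n, rfl⟩
    by_contra hn
    have h4 : Points.ofPt p (snd.left n) ∈ Z := ⟨_, hn, rfl⟩
    have h5 : Points.ofPt p (snd.left n) ∈ Zᶜ := by
      rw [← hr]
      refine ⟨Points.ofPt fst n, ?_⟩
      rw [Points.map_ofPt, sq.w, K621.Base.ofPt_comp]
    exact h5 h4
  have hWa : IsAffine (W : Scheme.{u}) := hW
  let i : N.left ⟶ (W : Scheme.{u}) := IsOpenImmersion.lift W.ι snd.left (by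
    rw [Scheme.Opens.range_ι]
    exact hrange)
  have hi : IsOpenImmersion i := by
    have : IsOpenImmersion (i ≫ W.ι) := by
      rw [IsOpenImmersion.lift_fac]
      exact hsnd
    exact IsOpenImmersion.of_comp i W.ι
  obtain ⟨A, ⟨e⟩⟩ := exists_iso_of_finite_chart f1 f2 f2' f3 i
  refine ⟨_, (K610.SchLocus.isSch_iff hj).2 (K610.ZarGlue.isRepresentable_iff.2 ⟨A, ⟨e⟩⟩), ?_⟩
  rw [hr]
  exact hxZ

end K625.FibAff
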