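import Mathlib.RingTheory.Localization.FractionRing
import Mathlib.RingTheory.Localization.Integer
import Mathlib.RingTheory.Jacobson.Ring
import Mathlib.RingTheory.Adjoin.FG
import Mathlib.RingTheory.TensorProduct.Basic
import Mathlib.RingTheory.AdjoinRoot
import Mathlib.RingTheory.Spectrum.Prime.Noetherian
import Mathlib.RingTheory.Artinian.Ring
import Mathlib.Algebra.MvPolynomial.Funext
import Mathlib.RingTheory.RingHom.FiniteType
import Mathlib.RingTheory.Spectrum.Prime.Topology

/-!
Specialization over localizations of polynomial rings in one variable (helper625).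
-/

set_option autoImplicit false
universe u
open scoped TensorProduct Polynomial

namespace K625.Spec1

section Denominators

variable {k : Type u} [Field k] {D : Type u} [CommRing D] [IsDomain D] [Algebra k D]

/-- A finitely generated subalgebra of the fraction field maps to a localization at one element. -/
theorem exists_algHom_away (A : Subalgebra k (FractionRing D)) (hA : A.FG) :
    ∃ b : D, b ≠ 0 ∧ Nonempty (A →ₐ[k] Localization.Away b) := by
  obtain ⟨s, hs⟩ := hA
  obtain ⟨⟨b, hb0⟩, hb⟩ := IsLocalization.exist_integer_multiples_of_finset (nonZeroDivisors D) s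
  have hb0' : b ≠ 0 := nonZeroDivisors.ne_zero hb0
  refine ⟨b, hb0', ?_⟩
  let f : D →ₐ[k] FractionRing D := IsScalarTower.toAlgHom k D (FractionRing D)
  have hf : ∀ y : Submonoid.powers b, IsUnit (f y) := by
    rintro ⟨_, n, rfl⟩
    change IsUnit (algebraMap D (FractionRing D) (b ^ n))
    rw [map_pow]
    refine IsUnit.pow n (isUnit_iff_ne_zero.2 ?_)
    exact (map_ne_zero_iff _ (IsFractionRing.injective D (FractionRing D))).2 hb0'
  let j : Localization.Away b →ₐ[k] FractionRing D :=
    IsLocalization.liftAlgHom (M := Submonoid.powers b) (f := f) hf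
  have hj1 : ∀ d : D, j (algebraMap D _ d) = algebraMap D (FractionRing D) d := fun d =>
    IsLocalization.lift_eq _ d
  have hj : Function.Injective j := by
    rw [injective_iff_map_eq_zero]
    intro z hz
    obtain ⟨x, ⟨_, n, rfl⟩, rfl⟩ := IsLocalization.exists_mk'_eq (Submonoid.powers b) z
    have h1 : j (IsLocalization.mk' (M := Submonoid.powers b) (Localization.Away b) x ⟨b ^ n, n, rfl⟩) *
        j (algebraMap D _ (b ^ n)) = j (algebraMap D _ x) := by
      rw [← map_mul]
      congr 1
      exact IsLocalization.mk'_spec _ x (⟨b ^ n, n, rfl⟩ : Submonoid.powers b)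
    rw [hz, zero_mul, hj1] at h1
    have h2 : x = 0 := (map_eq_zero_iff _ (IsFractionRing.injective D (FractionRing D))).1 h1.symm
    rw [h2, IsLocalization.mk'_zero]
  have hle : A ≤ j.range := by
    rw [← hs, Algebra.adjoin_le_iff]
    intro a ha
    obtain ⟨d, hd⟩ := hb a ha
    refine ⟨IsLocalization.mk' (M := Submonoid.powers b) _ d ⟨b, 1, pow_one b⟩, ?_⟩
    have h1 : j (IsLocalization.mk' (M := Submonoid.powers b) (Localization.Away b) d ⟨b, 1, pow_one b⟩) *
        j (algebraMap D _ b) = j (algebraMap D _ d) := by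
      rw [← map_mul]
      congr 1
      exact IsLocalization.mk'_spec _ d (⟨b, 1, pow_one b⟩ : Submonoid.powers b)
    rw [hj1, hj1] at h1
    have h2 : algebraMap D (FractionRing D) b ≠ 0 :=
      (map_ne_zero_iff _ (IsFractionRing.injective D (FractionRing D))).2 hb0'
    have h3 : algebraMap D (FractionRing D) d = a * algebraMap D (FractionRing D) b := by
      rw [hd, Algebra.smul_def, mul_comm]
    exact mul_right_cancel₀ h2 (h1.trans h3)
  exact ⟨((AlgEquiv.ofInjective j hj).symm : j.range →ₐ[k] _).comp (Subalgebra.inclusion hle)⟩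

end Denominators

/-- Specialization of many variables to one. -/
theorem exists_algHom_ratFunc {k : Type u} [Field k] {ι : Type u} (b : MvPolynomial ι k) (hb : b ≠ 0) :
    Nonempty (Localization.Away b →ₐ[k] FractionRing k[X]) := by
  obtain ⟨p, hp⟩ : ∃ p : ι → k[X], MvPolynomial.aeval p b ≠ 0 := by
    by_contra h
    push Not at h
    refine hb ?_
    have h1 : MvPolynomial.map (Polynomial.C : k →+* k[X]) b = 0 := by
      refine MvPolynomial.funext fun p => ?_
      rw [map_zero, MvPolynomial.eval_map]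
      exact h p
    exact (map_eq_zero_iff _ (MvPolynomial.map_injective _ Polynomial.C_injective)).1 h1
  let f : MvPolynomial ι k →ₐ[k] FractionRing k[X] :=
    (IsScalarTower.toAlgHom k k[X] (FractionRing k[X])).comp (MvPolynomial.aeval p)
  have hf : ∀ y : Submonoid.powers b, IsUnit (f y) := by
    rintro ⟨_, n, rfl⟩
    change IsUnit (f (b ^ n))
    rw [map_pow]
    refine IsUnit.pow n (isUnit_iff_ne_zero.2 ?_)
    exact (map_ne_zero_iff _ (IsFractionRing.injective k[X] (FractionRing k[X]))).2 hp
  exact ⟨IsLocalization.liftAlgHom (M := Submonoid.powers b) (f := f) hf⟩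

section Curve

open PrimeSpectrum

variable {k : Type u} [Field k] (g : k[X]) (κ : Type u) [Field κ] [Algebra k κ]

/-- `κ[X] → κ ⊗ k[X]_g`. -/
noncomputable def rho : κ[X] →ₐ[κ] κ ⊗[k] Localization.Away g :=
  Polynomial.aeval (1 ⊗ₜ algebraMap k[X] (Localization.Away g) Polynomial.X)

theorem rho_map (x : k[X]) : rho g κ (x.map (algebraMap k κ)) = 1 ⊗ₜ algebraMap k[X] (Localization.Away g) x := by
  let f₁ : k[X] →ₐ[k] κ ⊗[k] Localization.Away g :=
    ((rho g κ).restrictScalars k).comp (Polynomial.mapAlgHom (Algebra.ofId k κ))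
  let f₂ : k[X] →ₐ[k] κ ⊗[k] Localization.Away g :=
    (Algebra.TensorProduct.includeRight).comp (IsScalarTower.toAlgHom k k[X] (Localization.Away g))
  have h : f₁ = f₂ := by
    apply Polynomial.algHom_ext
    change rho g κ ((Polynomial.X : k[X]).map (algebraMap k κ)) = 1 ⊗ₜ _
    rw [Polynomial.map_X, rho, Polynomial.aeval_X]
    rfl
  exact DFunLike.congr_fun h x

theorem exists_rho (r : κ ⊗[k] Localization.Away g) :
    ∃ (m : ℕ) (s : κ[X]), r * (rho g κ (g.map (algebraMap k κ))) ^ m = rho g κ s := by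
  induction r with
  | zero => exact ⟨0, 0, by simp⟩
  | tmul a c =>
    obtain ⟨x, ⟨_, n, rfl⟩, rfl⟩ := IsLocalization.exists_mk'_eq (Submonoid.powers g) c
    refine ⟨n, Polynomial.C a * x.map (algebraMap k κ), ?_⟩
    rw [rho_map, map_mul, rho_map, Algebra.TensorProduct.tmul_pow, one_pow, Algebra.TensorProduct.tmul_mul_tmul,
      mul_one, ← map_pow]
    have h1 : rho g κ (Polynomial.C a) = a ⊗ₜ 1 := by
      rw [rho, Polynomial.aeval_C]
      rfl
    rw [h1, Algebra.TensorProduct.tmul_mul_tmul, mul_one, one_mul]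
    congr 1
    exact IsLocalization.mk'_spec (Localization.Away g) x (⟨g ^ n, n, rfl⟩ : Submonoid.powers g)
  | add r₁ r₂ h₁ h₂ =>
    obtain ⟨m₁, s₁, h₁⟩ := h₁
    obtain ⟨m₂, s₂, h₂⟩ := h₂
    refine ⟨m₁ + m₂, s₁ * (g.map (algebraMap k κ)) ^ m₂ + s₂ * (g.map (algebraMap k κ)) ^ m₁, ?_⟩
    rw [map_add, map_mul, map_mul, map_pow, map_pow, ← h₁, ← h₂]
    ring

theorem isUnit_rho : IsUnit (rho g κ (g.map (algebraMap k κ))) := by
  rw [rho_map]
  have h := IsLocalization.Away.algebraMap_isUnit (S := Localization.Away g) g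
  exact h.map (Algebra.TensorProduct.includeRight : Localization.Away g →ₐ[k] κ ⊗[k] Localization.Away g)

theorem comap_rho_injective : Function.Injective (comap (rho g κ : κ[X] →+* κ ⊗[k] Localization.Away g)) := by
  have key : ∀ P Q : PrimeSpectrum (κ ⊗[k] Localization.Away g),
      comap (rho g κ : κ[X] →+* κ ⊗[k] Localization.Away g) P =
        comap (rho g κ : κ[X] →+* κ ⊗[k] Localization.Away g) Q → P.asIdeal ≤ Q.asIdeal := by
    intro P Q h r hr
    obtain ⟨m, s, hs⟩ := exists_rho g κ r
    have h1 : rho g κ s ∈ P.asIdeal := by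
      rw [← hs]
      exact P.asIdeal.mul_mem_right _ hr
    have h2 : s ∈ (comap (rho g κ : κ[X] →+* κ ⊗[k] Localization.Away g) P).asIdeal := h1
    rw [h] at h2
    have h3 : rho g κ s ∈ Q.asIdeal := h2
    rw [← hs] at h3
    refine (Q.isPrime.mem_or_mem h3).resolve_right fun h4 => ?_
    have h5 := Q.isPrime.mem_of_pow_mem _ h4
    exact Q.isPrime.ne_top (Ideal.eq_top_of_isUnit_mem _ h5 (isUnit_rho g κ))
  intro P Q h
  exact PrimeSpectrum.ext (le_antisymm (key P Q h) (key Q P h.symm))

theorem finite_zeroLocus (h : κ[X]) (h0 : h ≠ 0) : (zeroLocus ({h} : Set κ[X])).Finite := by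
  have h1 : Module.Finite κ (AdjoinRoot h) := (AdjoinRoot.powerBasis h0).finite
  have h2 : IsArtinianRing (AdjoinRoot h) := IsArtinianRing.of_finite κ _
  have h3 : Finite (PrimeSpectrum (AdjoinRoot h)) := inferInstance
  have h4 : Set.range (comap (AdjoinRoot.mk h)) = zeroLocus ({h} : Set κ[X]) := by
    rw [range_comap_of_surjective _ _ AdjoinRoot.mk_surjective]
    have : RingHom.ker (AdjoinRoot.mk h) = Ideal.span {h} := Ideal.mk_ker
    rw [this, zeroLocus_span]
  rw [← h4]
  exact Set.finite_range _

/-- Proper closed subsets of the affine curve `Spec (κ ⊗ k[X]_g)` are finite. -/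
theorem finite_compl {O : Set (PrimeSpectrum (κ ⊗[k] Localization.Away g))} (hO : IsOpen O)
    (hne : O.Nonempty) : Oᶜ.Finite := by
  obtain ⟨I, hI⟩ := (isClosed_iff_zeroLocus _).1 hO.isClosed_compl
  obtain ⟨ζ, hζ⟩ := hne
  have h1 : ζ ∉ zeroLocus I := by
    rw [← hI]
    exact fun h => h hζ
  rw [mem_zeroLocus, Set.not_subset] at h1
  obtain ⟨r, hrI, hrζ⟩ := h1
  have hr0 : r ≠ 0 := fun h => hrζ (by rw [h]; exact ζ.asIdeal.zero_mem)
  obtain ⟨m, s, hs⟩ := exists_rho g κ r
  have hs0 : s ≠ 0 := by
    rintro rfl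
    rw [map_zero] at hs
    exact hr0 ((IsUnit.mul_left_eq_zero ((isUnit_rho g κ).pow m)).1 hs)
  refine Set.Finite.of_finite_image (f := comap (rho g κ : κ[X] →+* κ ⊗[k] Localization.Away g))
    ((finite_zeroLocus κ s hs0).subset ?_) (comap_rho_injective g κ).injOn
  rintro _ ⟨P, hP, rfl⟩
  rw [hI] at hP
  rw [mem_zeroLocus, Set.singleton_subset_iff]
  change rho g κ s ∈ P.asIdeal
  rw [← hs]
  exact P.asIdeal.mul_mem_right _ (hP hrI)

end Curve

section Maximal

variable {k : Type u} [Field k]

theorem exists_maximal_notMem (g : k[X]) (hg : g ≠ 0) {B : Set (PrimeSpectrum (Localization.Away g))}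
    (hB : B.Finite) : ∃ (m : Ideal (Localization.Away g)) (hm : m.IsMaximal),
      (⟨m, hm.isPrime⟩ : PrimeSpectrum (Localization.Away g)) ∉ B := by
  have hle : Submonoid.powers g ≤ nonZeroDivisors k[X] := powers_le_nonZeroDivisors_of_noZeroDivisors hg
  have hdom : IsDomain (Localization.Away g) := IsLocalization.isDomain_localization hle
  have hft : Algebra.FiniteType k (Localization.Away g) := by
    have h1 : Algebra.FiniteType k[X] (Localization.Away g) :=
      IsLocalization.finiteType_of_monoid_fg (Submonoid.powers g) _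
    exact Algebra.FiniteType.trans (inferInstance : Algebra.FiniteType k k[X]) h1
  have hJ : IsJacobsonRing (Localization.Away g) := isJacobsonRing_of_finiteType (A := k)
  have hnf : ¬ IsField (Localization.Away g) := by
    intro hF
    let _ := hF.toField
    have h1 : Module.Finite k (Localization.Away g) := finite_of_finite_type_of_isJacobsonRing k _
    have h2 : Function.Injective (IsScalarTower.toAlgHom k k[X] (Localization.Away g)) :=
      IsLocalization.injective _ hle
    have h3 : Module.Finite k k[X] := Module.Finite.of_injective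
      (IsScalarTower.toAlgHom k k[X] (Localization.Away g)).toLinearMap h2
    exact Polynomial.not_finite h3
  by_contra hcon
  push Not at hcon
  classical
  let F := hB.toFinset.filter (fun P => P.asIdeal.IsMaximal)
  have h1 : F.inf (fun P => P.asIdeal) ≤ (⊥ : Ideal (Localization.Away g)).jacobson := by
    refine le_sInf ?_
    rintro J ⟨-, hJm⟩
    have h2 := hcon J hJm
    exact Finset.inf_le (f := fun P : PrimeSpectrum (Localization.Away g) => P.asIdeal)
      (b := (⟨J, hJm.isPrime⟩ : PrimeSpectrum (Localization.Away g)))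
      (Finset.mem_filter.2 ⟨hB.mem_toFinset.2 h2, hJm⟩)
  have h2 : (⊥ : Ideal (Localization.Away g)).jacobson = ⊥ :=
    hJ.out (Ideal.IsPrime.isRadical Ideal.isPrime_bot)
  rw [h2] at h1
  obtain ⟨P, hP, hP2⟩ := (Ideal.IsPrime.inf_le' (Ideal.isPrime_bot)).1 h1
  have hPm : P.asIdeal.IsMaximal := (Finset.mem_filter.1 hP).2
  have h3 : P.asIdeal = ⊥ := le_bot_iff.1 hP2
  rw [h3] at hPm
  exact hnf (Ring.isField_iff_maximal_bot.2 hPm)

/-- There is a maximal ideal of `k[X]_g` all of whose preimages in the curve over `κ` lie in `O`. -/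
theorem exists_maximal (g : k[X]) (hg : g ≠ 0) (κ : Type u) [Field κ] [Algebra k κ]
    {O : Set (PrimeSpectrum (κ ⊗[k] Localization.Away g))} (hO : IsOpen O) (hne : O.Nonempty) :
    ∃ (m : Ideal (Localization.Away g)), m.IsMaximal ∧ ∀ P : PrimeSpectrum (κ ⊗[k] Localization.Away g),
      P.asIdeal.comap (Algebra.TensorProduct.includeRight :
        Localization.Away g →ₐ[k] κ ⊗[k] Localization.Away g) = m → P ∈ O := by
  obtain ⟨m, hm, hmB⟩ := exists_maximal_notMem g hg ((finite_compl g κ hO hne).image
    (PrimeSpectrum.comap ((Algebra.TensorProduct.includeRight :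
        Localization.Away g →ₐ[k] κ ⊗[k] Localization.Away g) : Localization.Away g →+* _)))
  refine ⟨m, hm, fun P hP => ?_⟩
  by_contra h
  exact hmB ⟨P, h, PrimeSpectrum.ext hP⟩

end Maximal

end K625.Spec1
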