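import Groth.Agent.AlgSp.K625.Fld

/-!
`h_{Spec (A ⊗ B)} ≅ h_{Spec A} ⨯ h_{Spec B}` and finite-level descent of opens of `|X_K|` for `K/k`
algebraic (helper625).
-/

set_option autoImplicit false
universe u
open CategoryTheory CategoryTheory.Limits AlgebraicGeometry Topology TopologicalSpace Opposite
open AlgSp
open K625.Fld (fld bcs homOf bcMap)
open scoped TensorProduct

namespace K625.Tensor

section over
variable {S : Scheme.{u}}

theorem isPullback_over {P X Y Z : Over S} {a : P ⟶ X} {b : P ⟶ Y} {f : X ⟶ Z} {g : Y ⟶ Z}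
    (h : IsPullback a.left b.left f.left g.left) : IsPullback a b f g :=
  IsPullback.of_map (Over.forget S) (Over.OverMorphism.ext h.w) h

theorem isPullback_over_left {P X Y Z : Over S} {a : P ⟶ X} {b : P ⟶ Y} {f : X ⟶ Z} {g : Y ⟶ Z}
    (h : IsPullback a b f g) : IsPullback a.left b.left f.left g.left :=
  h.map (Over.forget S)

end over

variable {k : Type u} [Field k]

section

variable (A B : Type u) [CommRing A] [CommRing B] [Algebra k A] [Algebra k B]

theorem isPullback_fld_tensor : IsPullback
    (homOf (Algebra.TensorProduct.includeLeft : A →ₐ[k] A ⊗[k] B))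
    (homOf (Algebra.TensorProduct.includeRight : B →ₐ[k] A ⊗[k] B))
    (K625.Prod.toBase (fld k A)) (K625.Prod.toBase (fld k B)) :=
  isPullback_over (isPullback_SpecMap_of_isPushout _ _ _ _ (CommRingCat.isPushout_tensorProduct k A B))

/-- `h_{Spec (A ⊗ B)} ⟶ h_{Spec A} ⨯ h_{Spec B}`. -/
noncomputable def tensorMap : (yon _).obj (fld k (A ⊗[k] B)) ⟶
    (yon _).obj (fld k A) ⨯ (yon _).obj (fld k B) :=
  prod.lift ((yon _).map (homOf Algebra.TensorProduct.includeLeft))
    ((yon _).map (homOf Algebra.TensorProduct.includeRight))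

theorem tensorMap_fst : tensorMap (k := k) A B ≫ prod.fst =
    (yon _).map (homOf Algebra.TensorProduct.includeLeft) := prod.lift_fst _ _

theorem tensorMap_snd : tensorMap (k := k) A B ≫ prod.snd =
    (yon _).map (homOf Algebra.TensorProduct.includeRight) := prod.lift_snd _ _

instance isIso_tensorMap : IsIso (tensorMap (k := k) A B) := by
  have h1 := (isPullback_fld_tensor (k := k) A B).map (yon _)
  rw [← K625.Prod.from_eq, ← K625.Prod.from_eq] at h1
  have h2 := K625.Prod.isPullback_prod ((yon _).obj (fld k A)) ((yon _).obj (fld k B))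
  have : tensorMap (k := k) A B = (h1.isoIsPullback _ _ h2).hom := by
    apply h2.hom_ext
    · rw [tensorMap_fst, IsPullback.isoIsPullback_hom_fst]
    · rw [tensorMap_snd, IsPullback.isoIsPullback_hom_snd]
  rw [this]
  infer_instance

theorem homOf_comp {A B C : Type u} [CommRing A] [CommRing B] [CommRing C] [Algebra k A]
    [Algebra k B] [Algebra k C] (φ : A →ₐ[k] B) (ψ : B →ₐ[k] C) :
    homOf ψ ≫ homOf φ = homOf (ψ.comp φ) := by
  apply Over.OverMorphism.ext
  rw [Over.comp_left]
  simp only [K625.Fld.homOf_left]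
  rw [← Spec.map_comp, ← CommRingCat.ofHom_comp]
  rfl

theorem tensorMap_natural {B C : Type u} [CommRing B] [CommRing C] [Algebra k B] [Algebra k C]
    (φ : B →ₐ[k] C) : tensorMap (k := k) A C ≫ prod.map (𝟙 _) ((yon _).map (homOf φ)) =
      (yon _).map (homOf (Algebra.TensorProduct.map (AlgHom.id k A) φ)) ≫ tensorMap A B := by
  have h1 : (Algebra.TensorProduct.map (AlgHom.id k A) φ).comp Algebra.TensorProduct.includeLeft =
      (Algebra.TensorProduct.includeLeft : A →ₐ[k] A ⊗[k] C) := by ext; simp
  have h2 : (Algebra.TensorProduct.map (AlgHom.id k A) φ).comp Algebra.TensorProduct.includeRight =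
      (Algebra.TensorProduct.includeRight : C →ₐ[k] A ⊗[k] C).comp φ := by ext; simp
  rw [tensorMap, tensorMap, prod.lift_map, prod.comp_lift, Category.comp_id, ← Functor.map_comp,
    ← Functor.map_comp, ← Functor.map_comp, homOf_comp, homOf_comp, homOf_comp, h1, h2]

/-- Points of `Spec (A ⊗ B)` as points of the product. -/
theorem bijective_ofPt_of_isIso {S : Scheme.{u}} {F : Sp S} {T : Over S} (a : (yon S).obj T ⟶ F)
    [IsIso a] : Function.Bijective (Points.ofPt a) := by
  have h : Points.ofPt a = Points.map a ∘ Points.schemeEquiv T := by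
    funext t
    exact Points.ofPt_eq_map_ofScheme a t
  rw [h]
  refine Function.Bijective.comp ?_ (Points.schemeEquiv T).bijective
  refine Function.bijective_iff_has_inverse.2 ⟨Points.map (inv a), fun x => ?_, fun x => ?_⟩
  · rw [← Points.map_comp, IsIso.hom_inv_id, Points.map_id]
  · rw [← Points.map_comp, IsIso.inv_hom_id, Points.map_id]

theorem isOpenMap_ofPt_of_isIso {S : Scheme.{u}} {F : Sp S} {T : Over S} (a : (yon S).obj T ⟶ F)
    [IsIso a] : IsOpenMap (Points.ofPt a) := by
  have h : Points.ofPt a = Points.map a ∘ Points.schemeHomeo T := by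
    funext t
    exact Points.ofPt_eq_map_ofScheme a t
  rw [h]
  refine IsOpenMap.comp ?_ (Points.schemeHomeo T).isOpenMap
  intro W hW
  have : Points.map a '' W = Points.map (inv a) ⁻¹' W := by
    ext y
    constructor
    · rintro ⟨x, hx, rfl⟩
      rw [Set.mem_preimage, ← Points.map_comp, IsIso.hom_inv_id, Points.map_id]
      exact hx
    · intro hy
      exact ⟨_, hy, by rw [← Points.map_comp, IsIso.inv_hom_id, Points.map_id]⟩
  rw [this]
  exact hW.preimage (Points.continuous_map _)

end

section level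

variable {K : Type u} [Field K] [Algebra k K]

/-- Elements of `A ⊗ K` come from a finite subextension. -/
theorem exists_finite_level (A : Type u) [CommRing A] [Algebra k A] [Algebra.IsAlgebraic k K]
    (f : A ⊗[k] K) : ∃ (k' : IntermediateField k K) (_ : FiniteDimensional k k')
      (f' : A ⊗[k] k'), Algebra.TensorProduct.map (AlgHom.id k A) k'.val f' = f := by
  induction f using TensorProduct.induction_on with
  | zero => exact ⟨⊥, inferInstance, 0, by simp⟩
  | tmul a x =>
    refine ⟨IntermediateField.adjoin k {x}, ?_, a ⊗ₜ ⟨x, ?_⟩, by simp⟩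
    · exact IntermediateField.adjoin.finiteDimensional (Algebra.IsIntegral.isIntegral x)
    · exact IntermediateField.mem_adjoin_simple_self k x
  | add f g hf hg =>
    obtain ⟨k₁, _, f', hf'⟩ := hf
    obtain ⟨k₂, _, g', hg'⟩ := hg
    refine ⟨k₁ ⊔ k₂, inferInstance,
      Algebra.TensorProduct.map (AlgHom.id k A) (IntermediateField.inclusion le_sup_left) f' +
      Algebra.TensorProduct.map (AlgHom.id k A) (IntermediateField.inclusion le_sup_right) g', ?_⟩
    rw [map_add]
    congr 1
    · rw [← hf', ← AlgHom.comp_apply, ← Algebra.TensorProduct.map_comp]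
      rfl
    · rw [← hg', ← AlgHom.comp_apply, ← Algebra.TensorProduct.map_comp]
      rfl

/-- The topology of `|Spec A × Spec K|` comes from finite levels, `K/k` algebraic. -/
theorem exists_level_affine (A : Type u) [CommRing A] [Algebra k A] [Algebra.IsAlgebraic k K]
    (x : Points (bcs ((yon _).obj (fld k A)) K)) (W : Set (Points (bcs ((yon _).obj (fld k A)) K)))
    (hW : IsOpen W) (hx : x ∈ W) :
    ∃ (k' : IntermediateField k K) (_ : FiniteDimensional k k')
      (W' : Set (Points (bcs ((yon _).obj (fld k A)) k'))), IsOpen W' ∧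
      Points.map (bcMap ((yon _).obj (fld k A)) k'.val) x ∈ W' ∧
      Points.map (bcMap ((yon _).obj (fld k A)) k'.val) ⁻¹' W' ⊆ W := by
  obtain ⟨t, rfl⟩ := (bijective_ofPt_of_isIso (tensorMap (k := k) A K)).2 x
  have hW2 : IsOpen (Points.ofPt (tensorMap (k := k) A K) ⁻¹' W) :=
    hW.preimage (Points.continuous_ofPt _)
  obtain ⟨_, ⟨f, rfl⟩, htf, hfW⟩ :=
    (PrimeSpectrum.isTopologicalBasis_basic_opens (R := A ⊗[k] K)).exists_subset_of_mem_open
      hx hW2
  obtain ⟨k', hk', f', rfl⟩ := exists_finite_level A f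
  have key : ∀ s : ↥(fld k (A ⊗[k] K)).left, Points.map (bcMap ((yon _).obj (fld k A)) k'.val)
      (Points.ofPt (tensorMap (k := k) A K) s) = Points.ofPt (tensorMap (k := k) A k')
      ((homOf (Algebra.TensorProduct.map (AlgHom.id k A) k'.val)).left s) := fun s =>
    K625.Points.ofPt_square (tensorMap_natural A k'.val) s
  refine ⟨k', hk', Points.ofPt (tensorMap (k := k) A k') ''
      (PrimeSpectrum.basicOpen f' : Set (PrimeSpectrum (A ⊗[k] k'))),
    isOpenMap_ofPt_of_isIso (tensorMap (k := k) A k') (PrimeSpectrum.basicOpen f' :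
      Set (PrimeSpectrum (A ⊗[k] k'))) (PrimeSpectrum.basicOpen f').isOpen, ?_, ?_⟩
  · rw [key]
    exact ⟨_, htf, rfl⟩
  · intro y hy
    obtain ⟨s, rfl⟩ := (bijective_ofPt_of_isIso (tensorMap (k := k) A K)).2 y
    rw [Set.mem_preimage, key] at hy
    obtain ⟨d, hd, e⟩ := hy
    have := (bijective_ofPt_of_isIso (tensorMap (k := k) A k')).1 e
    subst this
    exact hfW hd

end level

end K625.Tensor
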