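import Groth.Agent.AlgSp.K625.QcOpen
import Groth.Agent.AlgSp.K625.FibAff
import Groth.Agent.AlgSp.K625.Spec1
import Groth.Agent.AlgSp.K625.Tensor

/-!
If `X_K` is a scheme for `K/k` purely transcendental then `X` is a scheme (helper625).

No reduction to finitely presented spaces is needed: for every point `x` one chooses a prime of `k[T]_g` outside
a finite bad set such that the fibre over `x` lies in an affine open of `X_{k'}`.
-/

set_option autoImplicit false
universe u
open CategoryTheory CategoryTheory.Limits AlgebraicGeometry Topology TopologicalSpace Opposite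
open AlgSp
open scoped TensorProduct Polynomial

namespace K625.PureTr

open K625.Fld K625.Prod K625.Lim K625.SepExt K625.Desc K625.Tensor K625.QcOpen

variable {k : Type u} [Field k]

/-- Every point of a sheaf over `Spec k` is given by an extension field of `k`. -/
theorem exists_field_point {X : Sp (Spec (CommRingCat.of k))} (x : Points X) :
    ∃ (κ : Type u) (_ : Field κ) (_ : Algebra k κ) (a : (yon _).obj (fld k κ) ⟶ X),
      ∀ t, Points.ofPt a t = x := by
  induction x using Points.ind with
  | h p =>
    obtain ⟨K, str, val⟩ := p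
    obtain ⟨inst, rfl⟩ := exists_algebra str
    let q : FieldPt X := ⟨K, Spec.map (CommRingCat.ofHom (algebraMap k K)), val⟩
    exact ⟨K, inferInstance, inst, K625.Points.toHom q, fun t => K625.Points.ofPt_toHom q t⟩

/-- Base change of a representation along a morphism of schemes, with the projection. -/
theorem exists_map {S : Scheme.{u}} (X : Sp S) {T' T M : Over S} (φ : T' ⟶ T)
    (e : (yon S).obj M ≅ X ⨯ (yon S).obj T) : ∃ (g : M ⟶ T)
      (e' : (yon S).obj (pullback g φ) ≅ X ⨯ (yon S).obj T'),
      e'.hom ≫ prod.map (𝟙 X) ((yon S).map φ) = (yon S).map (pullback.fst g φ) ≫ e.hom := by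
  obtain ⟨g, hg⟩ := (yon S).map_surjective (e.hom ≫ prod.snd)
  have sq := (IsPullback.of_hasPullback g φ).map (yon S)
  have sq1 : IsPullback ((yon _).map (pullback.fst g φ) ≫ e.hom) ((yon _).map (pullback.snd g φ))
      (prod.snd : X ⨯ (yon S).obj T ⟶ (yon S).obj T) ((yon _).map φ) :=
    IsPullback.of_iso sq (Iso.refl _) e (Iso.refl _) (Iso.refl _) (by simp) (by simp)
      (by simp [hg]) (by simp)
  have sq2 := (isPullback_map_right X ((yon S).map φ)).flip
  exact ⟨g, sq1.isoIsPullback _ _ sq2, IsPullback.isoIsPullback_hom_fst _ _ _ _⟩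

/-- The key step: a prime of `k[T]_g` is chosen such that the fibre over `x` is contained in an affine open. -/
theorem exists_isSch (X : Space (Spec (CommRingCat.of k))) (g : k[X]) (hg : g ≠ 0)
    (h : (bcs X.obj (Localization.Away g)).obj.IsRepresentable) (x : Points X.obj) :
    ∃ O, K610.SchLocus.IsSch X.obj O ∧ x ∈ O := by
  obtain ⟨M, ⟨e⟩⟩ := K610.ZarGlue.isRepresentable_iff.1 h
  obtain ⟨κ, _, _, a, ha⟩ := exists_field_point x
  have hle : Submonoid.powers g ≤ nonZeroDivisors k[X] := powers_le_nonZeroDivisors_of_noZeroDivisors hg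
  have hdom : IsDomain (Localization.Away g) := IsLocalization.isDomain_localization hle
  obtain ⟨τ', hτ'⟩ := (yon _).map_surjective
    ((tensorMap (k := k) κ (Localization.Away g) ≫ prod.map a (𝟙 _)) ≫ e.inv)
  have hnt : Nontrivial (κ ⊗[k] Localization.Away g) := inferInstance
  obtain ⟨ζ⟩ : Nonempty (PrimeSpectrum (κ ⊗[k] Localization.Away g)) := inferInstance
  obtain ⟨W, hW, hζW, -⟩ := exists_isAffineOpen_mem_and_subset (X := M.left) (U := ⊤) (x := τ'.left ζ)
    (TopologicalSpace.Opens.mem_top _)
  let O : Set (PrimeSpectrum (κ ⊗[k] Localization.Away g)) := (τ'.left ⁻¹ᵁ W).carrier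
  have hO : IsOpen O := (τ'.left ⁻¹ᵁ W).isOpen
  obtain ⟨m, hm, hmO⟩ := K625.Spec1.exists_maximal g hg κ hO ⟨ζ, hζW⟩
  let k' := Localization.Away g ⧸ m
  let _ : Field k' := Ideal.Quotient.field m
  have hft : Algebra.FiniteType k (Localization.Away g) := by
    have h1 : Algebra.FiniteType k[X] (Localization.Away g) :=
      IsLocalization.finiteType_of_monoid_fg (Submonoid.powers g) _
    exact Algebra.FiniteType.trans (inferInstance : Algebra.FiniteType k k[X]) h1
  have hfin : Module.Finite k k' := by
    have : Algebra.FiniteType k k' := inferInstance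
    exact finite_of_finite_type_of_isJacobsonRing k k'
  let φ : Localization.Away g →ₐ[k] k' := Ideal.Quotient.mkₐ k m
  obtain ⟨γ, e', he'⟩ := exists_map X.obj (homOf φ) e
  have hF : IsFinite (fld k k').hom := by
    change IsFinite (Spec.map (CommRingCat.ofHom (algebraMap k k')))
    rw [IsFinite.SpecMap_iff]
    exact RingHom.finite_algebraMap.2 hfin
  have hFl : Flat (fld k k').hom := inferInstanceAs (Flat (Spec.map (CommRingCat.ofHom (algebraMap k k'))))
  have hFp : LocallyOfFinitePresentation (fld k k').hom := by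
    change LocallyOfFinitePresentation (Spec.map (CommRingCat.ofHom (algebraMap k k')))
    rw [HasRingHomProperty.Spec_iff (P := @LocallyOfFinitePresentation)]
    exact RingHom.FinitePresentation.of_finiteType.1 (RingHom.finiteType_algebraMap.2 inferInstance)
  have hFs : Surjective (fld k k').hom := surjective_specMap (algebraMap k k')
  refine K625.FibAff.isSch_of_fibre X (e'.hom ≫ prod.fst)
    ((MorphismProperty.cancel_left_of_respectsIso (RepWith @IsFinite) e'.hom _).2 (repWith_fst @IsFinite X.obj _ hF))
    ((MorphismProperty.cancel_left_of_respectsIso (RepWith @Flat) e'.hom _).2 (repWith_fst @Flat X.obj _ hFl))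
    ((MorphismProperty.cancel_left_of_respectsIso (RepWith @LocallyOfFinitePresentation) e'.hom _).2
      (repWith_fst @LocallyOfFinitePresentation X.obj _ hFp))
    ((MorphismProperty.cancel_left_of_respectsIso (RepWith @Surjective) e'.hom _).2
      (repWith_fst @Surjective X.obj _ hFs))
    ((pullback.fst γ (homOf φ)).left ⁻¹ᵁ W) ?_ x ?_
  · have sq := isPullback_over_left (IsPullback.of_hasPullback γ (homOf φ))
    have h1 : IsAffineHom (homOf φ).left := inferInstanceAs (IsAffineHom (Spec.map _))
    have h2 : IsAffineHom (pullback.fst γ (homOf φ)).left :=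
      MorphismProperty.of_isPullback (P := @IsAffineHom) sq.flip h1
    exact hW.preimage _
  · intro m' hm'
    change (pullback.fst γ (homOf φ)).left m' ∈ W
    obtain ⟨t⟩ : Nonempty (PrimeSpectrum κ) := inferInstance
    have hxm : Points.map a (Points.ofScheme _ t) = Points.map prod.fst (Points.ofPt e'.hom m') := by
      rw [← Points.ofPt_eq_map_ofScheme, Points.map_ofPt]
      exact (ha t).trans hm'.symm
    obtain ⟨y, hy1, hy2⟩ := K625.Points.exists_of_isPullback
      (isPullback_map_left ((yon _).obj (fld k k')) a) _ _ hxm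
    obtain ⟨s', rfl⟩ := (bijective_ofPt_of_isIso (tensorMap (k := k) κ k')).2 y
    let ψ := Algebra.TensorProduct.map (AlgHom.id k κ) φ
    have key1 : Points.ofPt e.hom (τ'.left ((homOf ψ).left s')) =
        Points.ofPt e.hom ((pullback.fst γ (homOf φ)).left m') := by
      have h1 : (yon _).map τ' ≫ e.hom = tensorMap (k := k) κ (Localization.Away g) ≫ prod.map a (𝟙 _) := by
        rw [hτ', Category.assoc, e.inv_hom_id, Category.comp_id]
      have h2 : (yon _).map (homOf ψ) ≫ tensorMap (k := k) κ (Localization.Away g) ≫ prod.map a (𝟙 _) =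
          (tensorMap (k := k) κ k' ≫ prod.map a (𝟙 _)) ≫ prod.map (𝟙 _) ((yon _).map (homOf φ)) := by
        rw [← Category.assoc, ← tensorMap_natural, Category.assoc, Category.assoc]
        congr 1
        rw [prod.map_map, prod.map_map, Category.id_comp, Category.comp_id, Category.id_comp, Category.comp_id]
      rw [← K625.Points.ofPt_yon_map_comp, h1, ← K625.Points.ofPt_yon_map_comp, h2, ← Points.map_ofPt,
        ← Points.map_ofPt, hy2, Points.map_ofPt, he', K625.Points.ofPt_yon_map_comp]
    have key2 := (bijective_ofPt_of_isIso e.hom).1 key1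
    rw [← key2]
    refine hmO ((homOf ψ).left s') ?_
    have hcomp : ψ.comp (Algebra.TensorProduct.includeRight : Localization.Away g →ₐ[k] κ ⊗[k] Localization.Away g) =
        (Algebra.TensorProduct.includeRight : k' →ₐ[k] κ ⊗[k] k').comp φ :=
      Algebra.TensorProduct.map_comp_includeRight _ _
    let s'' : PrimeSpectrum (κ ⊗[k] k') := s'
    have hmem : ∀ c : Localization.Away g,
        c ∈ Ideal.comap (Algebra.TensorProduct.includeRight : Localization.Away g →ₐ[k] κ ⊗[k] Localization.Away g)
          (PrimeSpectrum.comap ψ.toRingHom s'').asIdeal ↔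
        (Algebra.TensorProduct.includeRight : k' →ₐ[k] κ ⊗[k] k') (φ c) ∈ s''.asIdeal := fun c => by
      rw [← AlgHom.comp_apply, ← hcomp]
      rfl
    symm
    refine hm.eq_of_le ?_ ?_
    · intro htop
      have h1 := (hmem 1).1 ((Ideal.eq_top_iff_one _).1 htop)
      rw [map_one, map_one] at h1
      exact s''.isPrime.ne_top ((Ideal.eq_top_iff_one _).2 h1)
    · intro c hc
      refine (hmem c).2 ?_
      have h1 : φ c = 0 := Ideal.Quotient.eq_zero_iff_mem.2 hc
      rw [h1, map_zero]
      exact s''.asIdeal.zero_mem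

/-- `X_K` a scheme for `K/k` purely transcendental implies that `X` is a scheme. -/
theorem isRepresentable_of_purelyTranscendental (X : Space (Spec (CommRingCat.of k)))
    (hqs : IsQuasiSeparatedSp X.obj) (ι : Type u)
    (h : (bcs X.obj (FractionRing (MvPolynomial ι k))).obj.IsRepresentable) : X.obj.obj.IsRepresentable := by
  refine K610.SchLocus.isRepresentable_iff_forall.2 fun x => ?_
  obtain ⟨X', j, hj, hx, hqc⟩ := exists_qc_nhd X x
  have hm := K610.Factor.mono_of_isOpenImmersion hj
  have hqs' : IsQuasiSeparatedSp X'.obj := isQuasiSeparatedSp_of_mono j.hom hqs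
  have h1 : (bcs X'.obj (FractionRing (MvPolynomial ι k))).obj.IsRepresentable :=
    isRepresentable_of_open (repWith_bc_open hj _) h
  obtain ⟨A, hA, h2⟩ := exists_fg_isRepresentable X'.property hqc hqs' _ h1
  obtain ⟨b, hb, ⟨φ⟩⟩ := K625.Spec1.exists_algHom_away A hA
  obtain ⟨ψ⟩ := K625.Spec1.exists_algHom_ratFunc b hb
  have h3 : (bcs X'.obj (FractionRing k[X])).obj.IsRepresentable :=
    isRepresentable_algHom X'.obj (ψ.comp φ) h2
  obtain ⟨B, hB, h4⟩ := exists_fg_isRepresentable X'.property hqc hqs' _ h3
  obtain ⟨g, hg, ⟨χ⟩⟩ := K625.Spec1.exists_algHom_away B hB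
  have h5 : (bcs X'.obj (Localization.Away g)).obj.IsRepresentable := isRepresentable_algHom X'.obj χ h4
  have h6 : X'.obj.obj.IsRepresentable :=
    K610.SchLocus.isRepresentable_iff_forall.2 fun y => exists_isSch X' g hg h5 y
  exact ⟨_, (K610.SchLocus.isSch_iff hj).2 h6, hx⟩

end K625.PureTr
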