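import Groth.Agent.AlgSp.K625.Points
import Mathlib.AlgebraicGeometry.Geometrically.Connected
import Mathlib.AlgebraicGeometry.Morphisms.UniversallyClosed

/-!
Products `X ⨯ h_T` of sheaves and their behaviour under change of `T`; representable properties of
the maps between them; consequences for the spaces of points (helper625).
-/

set_option autoImplicit false
universe u
open CategoryTheory CategoryTheory.Limits AlgebraicGeometry Topology TopologicalSpace Opposite
open AlgSp

namespace K625.Prod

variable {S : Scheme.{u}}

theorem isPullback_prod_snd_with_id {C : Type*} [Category C] [HasBinaryProducts C] (X : C) {A B : C}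
    (f : A ⟶ B) :
    IsPullback (prod.snd : X ⨯ A ⟶ A) (prod.map (𝟙 X) f) f (prod.snd : X ⨯ B ⟶ B) :=
  IsPullback.mk' (by simp) (fun T φ φ' h1 h2 => by
      ext
      · simpa using h2 =≫ prod.fst
      · exact h1)
    (fun T a b e => ⟨prod.lift (b ≫ prod.fst) a, prod.lift_snd _ _, by
      ext
      · simp [prod.lift_fst]
      · simpa [prod.lift_snd] using e⟩)

/-- The square `X ⨯ A ⟶ A`, `X ⨯ B ⟶ B`. -/
theorem isPullback_map_right (X : Sp S) {A B : Sp S} (f : A ⟶ B) :
    IsPullback (prod.snd : X ⨯ A ⟶ A) (prod.map (𝟙 X) f) f (prod.snd : X ⨯ B ⟶ B) :=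
  isPullback_prod_snd_with_id X f

theorem isPullback_map_left (X : Sp S) {A B : Sp S} (f : A ⟶ B) :
    IsPullback (prod.fst : A ⨯ X ⟶ A) (prod.map f (𝟙 X)) f (prod.fst : B ⨯ X ⟶ B) :=
  IsPullback.of_prod_fst_with_id f X

variable (S) in
/-- `h_S` is the terminal sheaf. -/
noncomputable def isTerminalBase : IsTerminal ((yon S).obj (Over.mk (𝟙 S))) :=
  Over.mkIdTerminal.isTerminalObj (yon S)

theorem isPullback_prod (X Y : Sp S) :
    IsPullback (prod.fst : X ⨯ Y ⟶ X) (prod.snd : X ⨯ Y ⟶ Y)
      ((isTerminalBase S).from X) ((isTerminalBase S).from Y) :=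
  IsPullback.of_isLimit_binaryFan_of_isTerminal (limit.isLimit _) (isTerminalBase S)

/-- The structure map of `T` as a morphism in `Over S`. -/
noncomputable def toBase (T : Over S) : T ⟶ Over.mk (𝟙 S) := Over.homMk T.hom (by simp)

theorem from_eq (T : Over S) : (isTerminalBase S).from ((yon S).obj T) = (yon S).map (toBase T) :=
  (isTerminalBase S).hom_ext _ _

theorem repWith_of_isPullback (P : MorphismProperty Scheme.{u}) {F' F G' G : Sp S} {f' : F' ⟶ F} {p' : F' ⟶ G'} {p : F ⟶ G}
    {g : G' ⟶ G} (sq : IsPullback f' p' p g) (h : RepWith P p) : RepWith P p' :=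
  MorphismProperty.of_isPullback sq h

section

variable (P : MorphismProperty Scheme.{u}) [P.IsStableUnderBaseChange]

/-- `X ⨯ h_T ⟶ X ⨯ h_T'` inherits the properties of `T ⟶ T'`. -/
theorem repWith_map_right (X : Sp S) {T T' : Over S} (φ : T ⟶ T') (h : P φ.left) :
    RepWith P (prod.map (𝟙 X) ((yon S).map φ)) :=
  MorphismProperty.of_isPullback (isPullback_map_right X ((yon S).map φ))
    ((repWith_yon_map_iff P φ).2 h)

theorem repWith_map_left (X : Sp S) {T T' : Over S} (φ : T ⟶ T') (h : P φ.left) :
    RepWith P (prod.map ((yon S).map φ) (𝟙 X)) :=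
  MorphismProperty.of_isPullback (isPullback_map_left X ((yon S).map φ))
    ((repWith_yon_map_iff P φ).2 h)

theorem repWith_fst (X : Sp S) (T : Over S) (h : P T.hom) :
    RepWith P (prod.fst : X ⨯ (yon S).obj T ⟶ X) := by
  refine MorphismProperty.of_isPullback (isPullback_prod X ((yon S).obj T)).flip ?_
  rw [from_eq]
  exact (repWith_yon_map_iff P _).2 h

theorem repWith_snd (X : Sp S) (T : Over S) (h : P T.hom) :
    RepWith P (prod.snd : (yon S).obj T ⨯ X ⟶ X) := by
  refine MorphismProperty.of_isPullback (isPullback_prod ((yon S).obj T) X) ?_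
  rw [from_eq]
  exact (repWith_yon_map_iff P _).2 h

end

theorem isOpenMap_of_repWith {F G : Sp S} {f : F ⟶ G} (h : RepWith @UniversallyOpen f) :
    IsOpenMap (Points.map f) :=
  Points.isOpenMap_map h.1 fun _ _ g fst snd sq =>
    have : UniversallyOpen snd.left := h.2 g fst snd sq
    snd.left.isOpenMap

theorem isClosedMap_of_repWith {F G : Sp S} {f : F ⟶ G} (h : RepWith @UniversallyClosed f) :
    IsClosedMap (Points.map f) :=
  Points.isClosedMap_map h.1 fun _ _ g fst snd sq =>
    have : UniversallyClosed snd.left := h.2 g fst snd sq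
    snd.left.isClosedMap

theorem surjective_of_repWith {F G : Sp S} {f : F ⟶ G} (h : RepWith @Surjective f) :
    Function.Surjective (Points.map f) :=
  Points.map_surjective h.1 fun q V fst snd sq => by
    have : Surjective snd.left := h.2 _ fst snd sq
    obtain ⟨v, -⟩ := snd.left.surjective (IsLocalRing.closedPoint q.K : PrimeSpectrum q.K)
    exact ⟨v⟩

theorem surjective_ofPt {F : Sp S} {T : Over S} {a : (yon S).obj T ⟶ F}
    (h : RepWith @Surjective a) : Function.Surjective (Points.ofPt a) := by
  intro x
  obtain ⟨y, rfl⟩ := surjective_of_repWith h x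
  obtain ⟨t, rfl⟩ := Points.points_yon_surj y
  exact ⟨t, Points.ofPt_eq_map_ofScheme a t⟩

/-- Connected fibres. -/
theorem isConnected_fibre {F G : Sp S} {f : F ⟶ G} (h : RepWith @GeometricallyConnected f)
    (y : Points G) : IsConnected (Points.map f ⁻¹' {y}) := by
  induction y using Points.ind with
  | h q =>
    obtain ⟨V, b, a, sq⟩ := h.1 (K625.Points.toHom q)
    have hb : GeometricallyConnected b.left := h.2 _ a b sq
    have : ConnectedSpace ↥V.left :=
      GeometricallyConnected.geometrically_connectedSpace (f := b.left)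
        (𝟙 _) (𝟙 _) b.left (IsPullback.of_id_fst)
    have := K625.Points.connectedSpace_yon V
    exact K625.Points.isConnected_fibre q sq

theorem bijective_connectedComponentsMap {F G : Sp S} {f : F ⟶ G}
    (h1 : RepWith @UniversallyOpen f) (h2 : RepWith @GeometricallyConnected f) :
    Function.Bijective (Continuous.connectedComponentsMap (Points.continuous_map f)) := by
  have hs : Function.Surjective (Points.map f) := fun y => (isConnected_fibre h2 y).nonempty
  exact ((isOpenMap_of_repWith h1).isQuotientMap (Points.continuous_map f)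
    hs).isCoinducing.connectedComponentsMap_bijective (isConnected_fibre h2)

/-- If the preimages of points are connected and the map is a quotient map, the source is connected as
soon as the target is. -/
theorem connectedSpace_source {F G : Sp S} {f : F ⟶ G}
    (h1 : RepWith @UniversallyOpen f) (h2 : RepWith @GeometricallyConnected f)
    [hG : ConnectedSpace (Points G)] : ConnectedSpace (Points F) := by
  have hs : Function.Surjective (Points.map f) := fun y => (isConnected_fibre h2 y).nonempty
  rw [connectedSpace_iff_univ] at hG ⊢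
  have := ((isOpenMap_of_repWith h1).isQuotientMap (Points.continuous_map f)
    hs).isCoinducing.isConnected_preimage_of_isClosed (isConnected_fibre h2) isClosed_univ hG
  simpa using this

theorem connectedSpace_target {F G : Sp S} {f : F ⟶ G} (hs : Function.Surjective (Points.map f))
    [ConnectedSpace (Points F)] : ConnectedSpace (Points G) :=
  hs.connectedSpace (Points.continuous_map f)

end K625.Prod
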