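import Groth.Agent.AlgSp.K625.SepExt

/-!
Quasi-compact open subspaces; `X_K` a scheme implies `X_{k̄}` a scheme (helper625).
-/

set_option autoImplicit false
universe u
open CategoryTheory CategoryTheory.Limits AlgebraicGeometry Topology TopologicalSpace Opposite
open AlgSp
open scoped TensorProduct

namespace K625.QcOpen

open K625.Fld K625.Prod K625.Lim K625.SepExt K625.Desc

theorem isQuasiSeparatedSp_of_mono {S : Scheme.{u}} {F G : Sp S} (j : F ⟶ G) [Mono j]
    (h : IsQuasiSeparatedSp G) : IsQuasiSeparatedSp F :=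
  MorphismProperty.of_isPullback (P := RepWith @QuasiCompact) (K610.Sub.diag_pullback_of_mono j).flip h

/-- Every point has a quasi-compact open neighbourhood. -/
theorem exists_qc_nhd {S : Scheme.{u}} (X : Space S) (x : Points X.obj) :
    ∃ (X' : Space S) (j : X' ⟶ X), RepWith @IsOpenImmersion j.hom ∧ x ∈ Set.range (Points.map j.hom) ∧
      IsQuasiCompactSp X'.obj := by
  obtain ⟨U, a, ha, has⟩ := X.property.atlas
  obtain ⟨u, rfl⟩ := K610.Base.surjective_ofPt has x
  obtain ⟨V, hV, hu, -⟩ := exists_isAffineOpen_mem_and_subset (X := U.left) (x := u) (U := ⊤) trivial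
  let W : Over S := Over.mk (V.ι ≫ U.hom)
  let i : W ⟶ U := Over.homMk V.ι rfl
  have hb : RepWith @Etale ((yon _).map i ≫ a) :=
    MorphismProperty.comp_mem _ _ _ ((repWith_yon_map_iff _ _).2 (inferInstance : Etale V.ι)) ha
  have hWa : IsAffine W.left := hV
  have ho : IsOpen (Set.range (Points.ofPt ((yon _).map i ≫ a))) :=
    (K610.Base.isOpenMap_ofPt_etale hb).isOpen_range
  obtain ⟨X', j, hj, hr⟩ := K610.Sub.exists_open_subspace X _ ho
  obtain ⟨b, hbj, hbe, hbs⟩ := K610.OpenImm.exists_corestrict X.property hj hr @Etale hb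
  refine ⟨X', j, hj, ?_, ⟨W, b, hbe, hbs, inferInstance⟩⟩
  rw [hr]
  exact ⟨⟨u, hu⟩, by rw [K610.Base.ofPt_map_comp]; rfl⟩

/-- An open subspace of a scheme is a scheme. -/
theorem isRepresentable_of_open {S : Scheme.{u}} {Z X : Sp S} {j : Z ⟶ X} (hj : RepWith @IsOpenImmersion j)
    (h : X.obj.IsRepresentable) : Z.obj.IsRepresentable := by
  have hm := K610.Factor.mono_of_isOpenImmersion hj
  refine (K610.SchLocus.isSch_iff hj).1 ((K610.SchLocus.isSch_univ_iff.2 h).mono ?_ (Set.subset_univ _))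
  obtain ⟨M, ⟨e⟩⟩ := K610.ZarGlue.isRepresentable_iff.1 h
  have hX : IsAlgSpace X := (IsAlgSpace.yon_obj M).of_iso e
  exact (K610.OpenImm.isOpenEmbedding_points hX hj).isOpen_range

variable {k : Type u} [Field k]

theorem isRepresentable_algClosure (X : Space (Spec (CommRingCat.of k))) (hqs : IsQuasiSeparatedSp X.obj)
    (K : Type u) [CommRing K] [Nontrivial K] [Algebra k K] (h : (bcs X.obj K).obj.IsRepresentable)
    (kbar : Type u) [Field kbar] [Algebra k kbar] [IsAlgClosed kbar] :
    (bcs X.obj kbar).obj.IsRepresentable := by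
  have hXk := isAlgSpace_bcs X.property kbar
  refine (K610.SchLocus.isRepresentable_iff_forall (X := ⟨bcs X.obj kbar, hXk⟩)).2 fun z => ?_
  obtain ⟨X', j, hj, hz, hqc⟩ := exists_qc_nhd X (Points.map prod.fst z)
  have hm := K610.Factor.mono_of_isOpenImmersion hj
  have hqs' : IsQuasiSeparatedSp X'.obj := isQuasiSeparatedSp_of_mono j.hom hqs
  have h1 : (bcs X'.obj K).obj.IsRepresentable := isRepresentable_of_open (repWith_bc_open hj K) h
  obtain ⟨k', _, _, hfin, -, h2⟩ := exists_finite_separable X'.property hqc hqs' K h1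
  have h3 : (bcs X'.obj kbar).obj.IsRepresentable :=
    isRepresentable_algHom X'.obj (IsAlgClosed.lift : k' →ₐ[k] kbar) h2
  refine ⟨_, (K610.SchLocus.isSch_iff (repWith_bc_open hj kbar)).2 h3, ?_⟩
  rw [range_bc_open]
  exact hz

end K625.QcOpen
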