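import Groth.Agent.AlgSp.K625.GeomRed

/-!
Geometric reducedness and reducedness of base changes (helper625).
-/

set_option autoImplicit false
universe u
open CategoryTheory CategoryTheory.Limits AlgebraicGeometry Topology TopologicalSpace Opposite
open scoped TensorProduct
open AlgSp
open K625.Fld (fld bcs homOf bcMap)

namespace K625.GeomRed2

variable {k : Type u} [Field k]

/-- The underlying scheme of `U ⨯ Spec K`. -/
noncomputable def prodIso (U : Over (Spec (CommRingCat.of k))) (K : Type u) [Field K] [Algebra k K] :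
    (U ⨯ fld k K).left ≅ FBase.bc U.hom K := Over.prodLeftIsoPullback U (fld k K)

theorem prodIso_fst (U : Over (Spec (CommRingCat.of k))) (K : Type u) [Field K] [Algebra k K] :
    (prodIso U K).hom ≫ FBase.bcπ U.hom K = (prod.fst : U ⨯ fld k K ⟶ U).left :=
  Over.prodLeftIsoPullback_hom_fst U (fld k K)

theorem prodIso_snd (U : Over (Spec (CommRingCat.of k))) (K : Type u) [Field K] [Algebra k K] :
    (prodIso U K).hom ≫ FBase.bcStr U.hom K = (prod.snd : U ⨯ fld k K ⟶ fld k K).left :=
  Over.prodLeftIsoPullback_hom_snd U (fld k K)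

theorem isReduced_prod_iff (U : Over (Spec (CommRingCat.of k))) (K : Type u) [Field K] [Algebra k K] :
    IsReduced (U ⨯ fld k K).left ↔ IsReduced (FBase.bc U.hom K) :=
  ⟨fun _ => isReduced_of_isOpenImmersion (prodIso U K).inv,
    fun _ => isReduced_of_isOpenImmersion (prodIso U K).hom⟩

theorem isReduced_bc_of_gr {V : Scheme.{u}} (f : V ⟶ Spec (CommRingCat.of k))
    (h : ∀ v, FBase.IsGeomReducedAt f v) (K : Type u) [Field K] [Algebra k K] :
    IsReduced (FBase.bc f K) := by
  have : ∀ x : FBase.bc f K, _root_.IsReduced ((FBase.bc f K).presheaf.stalk x) :=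
    fun x => h _ K x rfl
  exact isReduced_of_isReduced_stalk _

/-- geometrically reduced implies reduced base changes. -/
theorem etaleLocally_of_gr (X : Space (Spec (CommRingCat.of k)))
    (h : ∀ x : Points X.obj, K625.GeomRed.GR X.obj x) (K : Type u) [Field K] [Algebra k K] :
    EtaleLocally (fun U => IsReduced U) (bcs X.obj K) := by
  obtain ⟨U, p, hp, hs⟩ := X.property.atlas
  refine ⟨_, K649.RedChart.prodChart p (fld k K),
    K649.RedChart.repWith_prodChart @Etale p _ hp, K649.RedChart.repWith_prodChart @Surjective p _ hs,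
    (isReduced_prod_iff U K).2 (isReduced_bc_of_gr U.hom (fun u => ?_) K)⟩
  exact (K625.GeomRed.gr_iff p hp u).1 (h _)

theorem isReduced_bc_of_etaleLocally {X : Sp (Spec (CommRingCat.of k))} (K : Type u) [Field K]
    [Algebra k K] (h : EtaleLocally (fun U => IsReduced U) (bcs X K))
    {U : Over (Spec (CommRingCat.of k))} (a : (yon _).obj U ⟶ X) (ha : RepWith @Etale a) :
    IsReduced (FBase.bc U.hom K) :=
  (isReduced_prod_iff U K).1 (K649.RedChart.isReduced_of_etaleLocally h
    (K649.RedChart.prodChart a (fld k K)) (K649.RedChart.repWith_prodChart @Etale a _ ha))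

/-- Every point is hit by the projection of a base change. -/
theorem bcπ_surjective {V : Scheme.{u}} (f : V ⟶ Spec (CommRingCat.of k)) (K : Type u) [Field K]
    [Algebra k K] (v : ↥V) : ∃ x' : ↥(FBase.bc f K), (FBase.bcπ f K).base x' = v := by
  obtain ⟨x', h, -⟩ := Scheme.exists_preimage_of_isPullback (IsPullback.of_hasPullback f
    (Spec.map (CommRingCat.ofHom (algebraMap k K)))) v
    (IsLocalRing.closedPoint K : PrimeSpectrum K) (@Subsingleton.elim (PrimeSpectrum k) _ _ _)
  exact ⟨x', h⟩

end K625.GeomRed2
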