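import Groth.Agent.S10650
import Groth.Agent.S10496
import Groth.Agent.S10381
import Groth.Agent.S10423
import Groth.Agent.S10339
import Groth.Agent.AlgSp.K597.ProperSub
import Groth.Agent.AlgSp.K597.UnivInj
import Groth.Agent.AlgSp.K624.QFCodim1Sp
import Groth.Agent.AlgSp.K621.Decent
import Groth.Agent.AlgSp.K609.QC

/-!
Alterations inside a proper surjective morphism (helper625).
-/

set_option autoImplicit false
universe u
open CategoryTheory CategoryTheory.Limits AlgebraicGeometry Topology TopologicalSpace Opposite
open AlgSp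

namespace K625.Alter

open K621.Decent

variable {S : Scheme.{u}}

/-- The fibre of a quasi-compact morphism over a point is quasi-compact. -/
theorem isCompact_fibre {X Y : Sp S} {f : X ⟶ Y}
    (hf : IsQuasiCompactMor f) (y : Points Y) : IsCompact (Points.map f ⁻¹' {y}) := by
  induction y using Points.ind with
  | h p =>
    have hc : CompactSpace ↥p.pt.left := inferInstanceAs (CompactSpace ↥(Spec _))
    have sq := IsPullback.of_hasPullback f p.toHom
    have h1 : IsQuasiCompactSp (pullback f p.toHom) :=
      hf (IsAlgSpace.yon_obj p.pt) (K596.QC.isQuasiCompactSp_yon p.pt) p.toHom _ _ sq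
    have h2 : CompactSpace (Points (pullback f p.toHom)) := K609.QC.compactSpace_points h1
    have h3 : Points.map f ⁻¹' {Points.mk p} = Set.range (Points.map (pullback.fst f p.toHom)) := by
      ext x
      constructor
      · intro hx
        let s : ↥p.pt.left := IsLocalRing.closedPoint p.K
        obtain ⟨z, hz, -⟩ := K610.Base.exists_of_isPullback sq x (Points.ofScheme _ s) (by
          rw [← Points.ofPt_eq_map_ofScheme, Points.ofPt_toHom p s]
          exact hx)
        exact ⟨z, hz⟩
      · rintro ⟨z, rfl⟩
        obtain ⟨t, ht⟩ := (Points.schemeEquiv p.pt).surjective (Points.map (pullback.snd f p.toHom) z)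
        change Points.ofScheme p.pt t = _ at ht
        change Points.map f (Points.map _ z) = Points.mk p
        rw [← Points.map_comp, pullback.condition, Points.map_comp, ← ht, ← Points.ofPt_eq_map_ofScheme,
          Points.ofPt_toHom]
    rw [h3]
    exact isCompact_range (Points.continuous_map _)

/-- A scheme without specializations has dimension at most zero. -/
theorem krullDim_le_zero {F : Scheme.{u}} (h : ∀ x y : F, x ⤳ y → x = y) : topologicalKrullDim ↥F ≤ 0 := by
  have h4 : topologicalKrullDim ↥F = Order.krullDim ↥F :=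
    Order.krullDim_eq_of_orderIso irreducibleSetEquivPoints
  rw [h4]
  refine iSup_le fun l => ?_
  have : l.length = 0 := by
    by_contra hl
    have hlt := l.strictMono (show (⟨0, by omega⟩ : Fin (l.length + 1)) < ⟨1, by omega⟩ from by
      simp [Fin.lt_def])
    have h5 := h _ _ (show l ⟨1, by omega⟩ ⤳ l ⟨0, by omega⟩ from hlt.le)
    exact hlt.ne' h5
  rw [this]
  exact le_rfl

/-- If only one point lies over `y` and the source is decent then `f` is quasi-finite there. -/
theorem qfAt_of_unique {X Y : Sp S} (hX : IsAlgSpace X) (hY : IsAlgSpace Y) (f : X ⟶ Y)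
    (hf : LocP @LocallyOfFiniteType f) (x : Points X) (hd : FinFibres X x)
    (hu : ∀ x', Points.map f x' = Points.map f x → x' = x) :
    K624.QFCodim1Sp.QFAt f x := by
  obtain ⟨U, V, a, b, h, u, ha, hb, w, rfl⟩ := K616.Inv.exists_diagram hX hY f x
  have hl : LocallyOfFiniteType h.left := hf a b h ha hb w
  rw [K624.QFCodim1Sp.qfAt_iff hf a b h ha hb w u, K624.QFCodim1.quasiFiniteAt_iff_fibreDimAt,
    K616.NearDim.fibreDimAt_eq_zero_iff]
  refine (Groth.Agent.VarietyB.DimTop.localDim_le_dim _).trans ?_
  have key : ∀ z : ↥(h.left.fiber (h.left u)),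
      Points.ofPt a (h.left.fiberι (h.left u) z) = Points.ofPt a u := by
    intro z
    apply hu
    have h5 : h.left.fiberι (h.left u) z ∈ Set.range (h.left.fiberι (h.left u)) := ⟨_, rfl⟩
    rw [Scheme.Hom.range_fiberι h.left (h.left u)] at h5
    have h6 : h.left (h.left.fiberι (h.left u) z) = h.left u := h5
    rw [Points.map_ofPt, Points.map_ofPt, w, K621.Base.ofPt_comp, K621.Base.ofPt_comp, h6]
  refine krullDim_le_zero fun z z' hz => ?_
  apply (h.left.fiberι (h.left u)).isEmbedding.injective
  refine K621.Decent.eq_of_specializes hX ha (hz.map (h.left.fiberι (h.left u)).continuous)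
    ((key z).trans (key z').symm) ?_
  rw [key z']
  exact hd

theorem exists_alteration {X Y : Space S} (f : X ⟶ Y) (hf : IsProperMor f.hom)
    (hs : IsSurjectiveMor f.hom) (hY : IsIntegralSp Y.obj) :
    ∃ (X' : Space S) (i : X' ⟶ X), RepWith @IsClosedImmersion i.hom ∧ IsIntegralSp X'.obj ∧
      IsProperMor (i ≫ f).hom ∧ IsDominantMor (i ≫ f).hom ∧
      ∃ (V : Space S) (j : V ⟶ Y), RepWith @IsOpenImmersion j.hom ∧ Nonempty (Points V.obj) ∧
        ∀ (P : Space S) (fst : P ⟶ V) (snd : P ⟶ X'), IsPullback fst.hom snd.hom j.hom (i ≫ f).hom →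
          IsFiniteMor fst.hom := by
  have hYd : IsDecent Y.obj := hY.2.1
  have hYi : IrreducibleSpace (Points Y.obj) := hY.2.2
  have hYs : QuasiSober (Points Y.obj) := Groth.Agent.S10339.result Y hYd
  obtain ⟨η, hη⟩ := hYs.sober (IrreducibleSpace.isIrreducible_univ (Points Y.obj)) isClosed_univ
  have hXqs : IsQuasiSeparatedMor f.hom := K597.repWith_mono
    (fun _ _ f (_ : IsClosedImmersion f) => (inferInstance : QuasiCompact f)) hf.1
  have hXd : IsDecent X.obj := Groth.Agent.S10381.result f ((Groth.Agent.S10423.result f).2 hXqs) hYd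
  have hXt : T0Space (Points X.obj) := K621.Decent.t0Space X.property hXd
  obtain ⟨x, hxη, hxc⟩ : ∃ x, Points.map f.hom x = η ∧
      ∀ x', Points.map f.hom x' = η → x ⤳ x' → x' = x := by
    let F := Points.map f.hom ⁻¹' {η}
    have h1 : CompactSpace F := isCompact_iff_compactSpace.1 (isCompact_fibre hf.2.1.2 η)
    have h2 : Nonempty F := by
      obtain ⟨x, hx⟩ := hs η
      exact ⟨⟨x, hx⟩⟩
    obtain ⟨x, -, hx⟩ := isClosed_univ.exists_closed_singleton (X := F) Set.univ_nonempty
    refine ⟨x.1, x.2, fun x' hx' hxx' => ?_⟩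
    have h3 : x ⤳ (⟨x', hx'⟩ : F) := (subtype_specializes_iff _ _).2 hxx'
    have h4 := specializes_iff_mem_closure.1 h3
    rw [hx.closure_eq] at h4
    exact congrArg Subtype.val h4
  obtain ⟨X', i, hi, hX', hr⟩ := Groth.Agent.S10496.result X hXd (closure {x}) isClosed_closure
    isIrreducible_singleton.closure
  have hip : IsProperMor i.hom := K597.ProperSub.isProperMor_of_closed X.property hi
  have hifp : IsProperMor (i ≫ f).hom :=
    K597.ProperSub.isProperMor_comp X'.property X.property Y.property hip hf
  obtain ⟨x₁, hx₁⟩ : x ∈ Set.range (Points.map i.hom) := by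
    rw [hr]
    exact subset_closure rfl
  have hx₁η : Points.map (i ≫ f).hom x₁ = η := by
    change Points.map (i.hom ≫ f.hom) x₁ = η
    rw [Points.map_comp, hx₁, hxη]
  have hdom : IsDominantMor (i ≫ f).hom := by
    intro y
    have h1 : closure {η} ⊆ closure (Set.range (Points.map (i ≫ f).hom)) :=
      closure_mono (Set.singleton_subset_iff.2 ⟨x₁, hx₁η⟩)
    exact h1 (by rw [hη.def]; trivial)
  have hinj : Function.Injective (Points.map i.hom) :=
    K597.UnivInj.injective_of_repWith (K597.repWith_mono
      (fun _ _ f (_ : IsClosedImmersion f) => (inferInstance : UniversallyInjective f)) hi)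
  obtain ⟨V, j, hj, hyr, hfin⟩ := Groth.Agent.S10650.result (i ≫ f) η hifp (by
    intro x' hx'
    refine qfAt_of_unique X'.property Y.property _ hifp.2.1.1 x' (finFibres_of_isDecent hX'.2.1 x') ?_
    have huniq : ∀ x'', Points.map (i ≫ f).hom x'' = η → Points.map i.hom x'' = x := by
      intro x'' h''
      have h3 : Points.map f.hom (Points.map i.hom x'') = η := by
        rw [← Points.map_comp]
        exact h''
      refine hxc _ h3 ?_
      have h4 : Points.map i.hom x'' ∈ closure {x} := by
        rw [← hr]
        exact ⟨_, rfl⟩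
      exact specializes_iff_mem_closure.2 h4
    intro x'' h''
    apply hinj
    rw [huniq x'' (h''.trans hx'), huniq x' hx'])
  obtain ⟨v, -⟩ := hyr
  exact ⟨X', i, hi, hX', hifp, hdom, V, j, hj, ⟨v⟩, fun P fst snd sq => hfin P snd fst sq.flip⟩

end K625.Alter
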