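import Groth.Agent.AlgSp.K625.LqfField
import Groth.Agent.AlgSp.K597.UnivInj
import Groth.Agent.AlgSp.K610.SchLocus
import Groth.Agent.AlgSp.K628.Props

/-!
Descent of schemes along field extensions: affine case, purely inseparable extensions (helper625).
-/

set_option autoImplicit false
universe u
open CategoryTheory CategoryTheory.Limits AlgebraicGeometry Topology TopologicalSpace Opposite
open AlgSp
open scoped TensorProduct

namespace K625.Desc

open K625.Fld K625.Prod

variable {k : Type u} [Field k]

/-- `Spec K → Spec k` is an fpqc covering. -/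
theorem isFpqcCover (K : Type u) [Field K] [Algebra k K] :
    IsFpqcCover (S := Spec (CommRingCat.of k)) (ι := PUnit.{u+1})
      (fun _ => (yon _).obj (fld k K)) (fun _ => (isTerminalBase _).from _) := by
  have hfl : Flat (fld k K).hom := inferInstanceAs (Flat (Spec.map (CommRingCat.ofHom (algebraMap k K))))
  have hsur : Surjective (fld k K).hom := surjective_specMap (algebraMap k K)
  have haf : IsAffineHom (fld k K).hom :=
    inferInstanceAs (IsAffineHom (Spec.map (CommRingCat.ofHom (algebraMap k K))))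
  constructor
  · intro _
    rw [from_eq]
    exact K597.locP_of_repWith (P := @Flat) (fun A B C e f he hf => inferInstance)
      ((repWith_yon_map_iff _ _).2 hfl)
  · intro Z hZ h
    have hZ' : IsAffine (pullback Z.hom (fld k K).hom) :=
      isAffine_of_isAffineHom (pullback.fst Z.hom (fld k K).hom)
    let W : Over (Spec (CommRingCat.of k)) := Over.mk (pullback.fst Z.hom (fld k K).hom ≫ Z.hom)
    let c : W ⟶ Z := Over.homMk (pullback.fst Z.hom (fld k K).hom) rfl
    let d : W ⟶ fld k K := Over.homMk (pullback.snd Z.hom (fld k K).hom) pullback.condition.symm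
    refine ⟨1, fun _ => W, fun _ => c, fun _ => hZ', fun _ => ?_, fun z => ⟨0, ?_⟩, fun _ =>
      ⟨⟨⟩, (yon _).map d, (isTerminalBase _).hom_ext _ _⟩⟩
    · exact inferInstanceAs (Flat (pullback.fst Z.hom (fld k K).hom))
    · have : Surjective (pullback.fst Z.hom (fld k K).hom) := inferInstance
      exact (pullback.fst Z.hom (fld k K).hom).surjective z

/-- An algebraic space over `k` which becomes an affine scheme over an extension field is an affine scheme. -/
theorem exists_affine_of_bc {X : Sp (Spec (CommRingCat.of k))} (hX : IsAlgSpace X) (K : Type u) [Field K]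
    [Algebra k K] (M : Over (Spec (CommRingCat.of k))) (hM : IsAffine M.left)
    (e : (yon _).obj M ≅ bcs X K) :
    ∃ A : Over (Spec (CommRingCat.of k)), IsAffine A.left ∧ Nonempty ((yon _).obj A ≅ X) := by
  have hXK : IsAlgSpace (bcs X K) := (IsAlgSpace.yon_obj M).of_iso e
  have h1 : IsAffineMor (prod.snd : bcs X K ⟶ (yon _).obj (fld k K)) := by
    intro Z hZ h
    obtain ⟨g, hg⟩ := (yon _).map_surjective (e.hom ≫ prod.snd)
    obtain ⟨z, rfl⟩ := (yon _).map_surjective h
    have hZ' : IsAffine (pullback g z).left := by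
      have : IsAffine (fld k K).left := inferInstanceAs (IsAffine (Spec _))
      have : IsAffineHom g.left := isAffineHom_of_isAffine _
      have sq := (IsPullback.of_hasPullback g z).map (Over.forget _)
      have : IsAffineHom (pullback.snd g z).left := MorphismProperty.of_isPullback (P := @IsAffineHom) sq ‹_›
      exact isAffine_of_isAffineHom (pullback.snd g z).left
    have sq := (IsPullback.of_hasPullback g z).map (yon (Spec (CommRingCat.of k)))
    refine ⟨pullback g z, pullback.snd g z, (yon _).map (pullback.fst g z) ≫ e.hom, ?_, hZ'⟩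
    exact IsPullback.of_iso sq (Iso.refl _) e (Iso.refl _) (Iso.refl _) (by simp) (by simp)
      (by simp [hg]) (by simp)
  have h2 : IsAffineMor ((isTerminalBase _).from X) :=
    (K628.Props.isLocalOnBase_isAffineMor (fun _ : PUnit.{u+1} => (yon _).obj (fld k K))
      (fun _ => (isTerminalBase _).from _) (IsAlgSpace.yon_obj _) (fun _ => IsAlgSpace.yon_obj _)
      (isFpqcCover K) ((isTerminalBase _).from X) hX (fun _ => bcs X K) (fun _ => prod.snd)
      (fun _ => prod.fst) (fun _ => hXK) (fun _ => isPullback_prod _ _)).2 (fun _ => h1)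
  obtain ⟨A, i, fst, sq, hA⟩ := h2 (Z := Over.mk (𝟙 (Spec (CommRingCat.of k))))
    (inferInstanceAs (IsAffine (Spec _))) (𝟙 _)
  have : IsIso fst := sq.isIso_fst_of_isIso
  exact ⟨A, hA, ⟨asIso fst⟩⟩

/-- Open subspaces with the same points are isomorphic. -/
theorem exists_iso_of_range_eq {S : Scheme.{u}} {X A B : Sp S} {a : A ⟶ X} {b : B ⟶ X}
    (ha : RepWith @IsOpenImmersion a) (hb : RepWith @IsOpenImmersion b)
    (h : Set.range (Points.map a) = Set.range (Points.map b)) : ∃ e : A ≅ B, e.hom ≫ b = a := by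
  have := K610.Factor.mono_of_isOpenImmersion ha
  have := K610.Factor.mono_of_isOpenImmersion hb
  obtain ⟨c, hc⟩ := (K610.Factor.factors_open_iff hb a).2 h.le
  obtain ⟨d, hd⟩ := (K610.Factor.factors_open_iff ha b).2 h.ge
  refine ⟨⟨c, d, ?_, ?_⟩, hc⟩
  · rw [← cancel_mono a, Category.assoc, hd, hc, Category.id_comp]
  · rw [← cancel_mono b, Category.assoc, hc, hd, Category.id_comp]

/-- Base change of an open subspace. -/
theorem repWith_bc_open {X Z : Sp (Spec (CommRingCat.of k))} {j : Z ⟶ X} (hj : RepWith @IsOpenImmersion j)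
    (K : Type u) [CommRing K] [Algebra k K] :
    RepWith @IsOpenImmersion (prod.map j (𝟙 ((yon _).obj (fld k K)))) :=
  MorphismProperty.of_isPullback (isPullback_map_left _ j) hj

theorem range_bc_open {X Z : Sp (Spec (CommRingCat.of k))} (j : Z ⟶ X)
    (K : Type u) [CommRing K] [Algebra k K] :
    Set.range (Points.map (prod.map j (𝟙 ((yon _).obj (fld k K))))) =
      Points.map (prod.fst : bcs X K ⟶ X) ⁻¹' Set.range (Points.map j) := by
  ext x
  constructor
  · rintro ⟨y, rfl⟩
    refine ⟨Points.map prod.fst y, ?_⟩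
    rw [← Points.map_comp, ← Points.map_comp, prod.map_fst]
  · rintro ⟨z, hz⟩
    obtain ⟨y, -, hy⟩ := K610.Base.exists_of_isPullback (isPullback_map_left _ j) z x hz
    exact ⟨y, hy⟩

theorem universallyInjective_specMap (K : Type u) [Field K] [Algebra k K] [IsPurelyInseparable k K] :
    UniversallyInjective (Spec.map (CommRingCat.ofHom (algebraMap k K))) := by
  refine ((tfae_universallyInjective (Spec.map (CommRingCat.ofHom (algebraMap k K)))).out 0 1).2 ?_
  intro L _ g₁ g₂ h
  obtain ⟨φ₁, rfl⟩ := Spec.map_surjective g₁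
  obtain ⟨φ₂, rfl⟩ := Spec.map_surjective g₂
  have h1 : Spec.map (CommRingCat.ofHom (algebraMap k K) ≫ φ₁) =
      Spec.map (CommRingCat.ofHom (algebraMap k K) ≫ φ₂) := by
    rw [Spec.map_comp, Spec.map_comp]
    exact h
  have h2 := Spec.map_injective h1
  have h3 : φ₁.hom = φ₂.hom :=
    IsPurelyInseparable.injective_comp_algebraMap k K L (congrArg CommRingCat.Hom.hom h2)
  rw [CommRingCat.hom_ext h3]

theorem exists_isSch_of_homeo (X : Space (Spec (CommRingCat.of k))) (K : Type u) [Field K] [Algebra k K]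
    (hinj : Function.Injective (Points.map (prod.fst : bcs X.obj K ⟶ X.obj)))
    (h : (bcs X.obj K).obj.IsRepresentable) : X.obj.obj.IsRepresentable := by
  obtain ⟨M, ⟨e⟩⟩ := K610.ZarGlue.isRepresentable_iff.1 h
  rw [K610.SchLocus.isRepresentable_iff_forall]
  intro x
  have hsur : Function.Surjective (Points.map (prod.fst : bcs X.obj K ⟶ X.obj)) :=
    surjective_of_repWith (repWith_fst _ _ _ (surjective_specMap (algebraMap k K)))
  have hopen : IsOpenMap (Points.map (prod.fst : bcs X.obj K ⟶ X.obj)) :=
    isOpenMap_of_repWith (repWith_fst _ _ _ (universallyOpen_specMap (algebraMap k K)))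
  obtain ⟨z, rfl⟩ := hsur x
  obtain ⟨m, rfl⟩ := K610.SchLocus.surjective_ofPt_iso e z
  obtain ⟨V, hV, hm, -⟩ := exists_isAffineOpen_mem_and_subset (X := M.left) (x := m) (U := ⊤) trivial
  let V' : Over (Spec (CommRingCat.of k)) := Over.mk (V.ι ≫ M.hom)
  let i : V' ⟶ M := Over.homMk V.ι rfl
  have hi : RepWith @IsOpenImmersion ((yon _).map i ≫ e.hom) :=
    MorphismProperty.comp_mem (RepWith @IsOpenImmersion) _ _
      ((repWith_yon_map_iff _ _).2 (inferInstanceAs (IsOpenImmersion V.ι))) (K610.SchLocus.repWith_iso e)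
  have ho : IsOpen (Set.range (Points.ofPt ((yon _).map i ≫ e.hom))) :=
    (K610.Base.isOpenMap_ofPt_etale (K610.OpenImm.repWith_etale_of_open hi)).isOpen_range
  obtain ⟨X', j, hj, hr⟩ := K610.Sub.exists_open_subspace X _ (hopen _ ho)
  obtain ⟨c, -⟩ := exists_iso_of_range_eq hi (repWith_bc_open hj K) (by
    rw [range_bc_open, hr, Set.preimage_image_eq _ hinj, K610.SchLocus.range_ofPt])
  obtain ⟨A, -, ⟨a⟩⟩ := exists_affine_of_bc X'.property K V' hV c
  refine ⟨_, (K610.SchLocus.isSch_iff hj).2 (K610.ZarGlue.isRepresentable_iff.2 ⟨A, ⟨a⟩⟩), ?_⟩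
  rw [hr]
  refine ⟨_, ⟨⟨m, hm⟩, rfl⟩, ?_⟩
  rw [K610.Base.ofPt_map_comp]
  rfl

theorem isRepresentable_of_insep (X : Space (Spec (CommRingCat.of k))) (K : Type u) [Field K] [Algebra k K]
    [IsPurelyInseparable k K] (h : (bcs X.obj K).obj.IsRepresentable) : X.obj.obj.IsRepresentable := by
  refine exists_isSch_of_homeo X K ?_ h
  exact K597.UnivInj.injective_of_repWith (repWith_fst _ _ _ (universallyInjective_specMap K))

end K625.Desc
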