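import Groth.Agent.AlgSp.K625.Desc

/-!
Descent of schemes along faithfully flat universal homeomorphisms of affine bases (helper625).
-/

set_option autoImplicit false
universe u
open CategoryTheory CategoryTheory.Limits AlgebraicGeometry Topology TopologicalSpace Opposite
open AlgSp
open scoped TensorProduct

namespace K625.Desc2

open K625.Fld K625.Prod K625.Desc

variable {S : Scheme.{u}} {B B' : Over S}

/-- A flat surjective morphism of affine schemes is an fpqc covering. -/
theorem isFpqcCover_yon [IsAffine B.left] [IsAffine B'.left] (φ : B' ⟶ B) [Flat φ.left] [Surjective φ.left] :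
    IsFpqcCover (S := S) (ι := PUnit.{u+1}) (fun _ => (yon S).obj B') (fun _ => (yon S).map φ) := by
  have haf : IsAffineHom φ.left := isAffineHom_of_isAffine _
  constructor
  · intro _
    exact K597.locP_of_repWith (P := @Flat) (fun A B C e f he hf => inferInstance)
      ((repWith_yon_map_iff _ _).2 ‹_›)
  · intro Z hZ h
    obtain ⟨z, rfl⟩ := (yon S).map_surjective h
    have hZ' : IsAffine (pullback z.left φ.left) :=
      isAffine_of_isAffineHom (pullback.fst z.left φ.left)
    let W : Over S := Over.mk (pullback.fst z.left φ.left ≫ Z.hom)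
    let c : W ⟶ Z := Over.homMk (pullback.fst z.left φ.left) rfl
    let d : W ⟶ B' := Over.homMk (pullback.snd z.left φ.left) (by
      change _ = pullback.fst z.left φ.left ≫ Z.hom
      rw [← Over.w φ, ← Over.w z, pullback.condition_assoc])
    refine ⟨1, fun _ => W, fun _ => c, fun _ => hZ', fun _ => ?_, fun t => ⟨0, ?_⟩, fun _ =>
      ⟨⟨⟩, (yon _).map d, ?_⟩⟩
    · exact inferInstanceAs (Flat (pullback.fst z.left φ.left))
    · have : Surjective (pullback.fst z.left φ.left) := inferInstance
      exact (pullback.fst z.left φ.left).surjective t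
    · rw [← Functor.map_comp, ← Functor.map_comp]
      congr 1
      exact Over.OverMorphism.ext pullback.condition.symm

/-- A space over an affine scheme which becomes an affine scheme over a flat cover is an affine scheme. -/
theorem exists_affine_of_pb [IsAffine B.left] [IsAffine B'.left] (φ : B' ⟶ B) [Flat φ.left] [Surjective φ.left]
    {X P : Sp S} (hX : IsAlgSpace X) {f : X ⟶ (yon S).obj B} {fst : P ⟶ X} {snd : P ⟶ (yon S).obj B'}
    (sqP : IsPullback fst snd f ((yon S).map φ)) (M : Over S) (hM : IsAffine M.left)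
    (e : (yon _).obj M ≅ P) :
    ∃ A : Over S, IsAffine A.left ∧ Nonempty ((yon _).obj A ≅ X) := by
  have hXK : IsAlgSpace P := (IsAlgSpace.yon_obj M).of_iso e
  have h1 : IsAffineMor snd := by
    intro Z hZ h
    obtain ⟨g, hg⟩ := (yon _).map_surjective (e.hom ≫ snd)
    obtain ⟨z, rfl⟩ := (yon _).map_surjective h
    have hZ' : IsAffine (pullback g z).left := by
      have : IsAffineHom g.left := isAffineHom_of_isAffine _
      have sq := (IsPullback.of_hasPullback g z).map (Over.forget _)
      have : IsAffineHom (pullback.snd g z).left := MorphismProperty.of_isPullback (P := @IsAffineHom) sq ‹_›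
      exact isAffine_of_isAffineHom (pullback.snd g z).left
    have sq := (IsPullback.of_hasPullback g z).map (yon S)
    refine ⟨pullback g z, pullback.snd g z, (yon _).map (pullback.fst g z) ≫ e.hom, ?_, hZ'⟩
    exact IsPullback.of_iso sq (Iso.refl _) e (Iso.refl _) (Iso.refl _) (by simp) (by simp)
      (by simp [hg]) (by simp)
  have h2 : IsAffineMor f :=
    (K628.Props.isLocalOnBase_isAffineMor (fun _ : PUnit.{u+1} => (yon _).obj B')
      (fun _ => (yon S).map φ) (IsAlgSpace.yon_obj _) (fun _ => IsAlgSpace.yon_obj _)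
      (isFpqcCover_yon φ) f hX (fun _ => P) (fun _ => snd)
      (fun _ => fst) (fun _ => hXK) (fun _ => sqP)).2 (fun _ => h1)
  obtain ⟨A, i, fst, sq, hA⟩ := h2 (Z := B) inferInstance (𝟙 _)
  have : IsIso fst := sq.isIso_fst_of_isIso
  exact ⟨A, hA, ⟨asIso fst⟩⟩

/-- Descent of schemes along faithfully flat universally injective and universally open covers of the base. -/
theorem isRepresentable_of_pb [IsAffine B.left] [IsAffine B'.left] (φ : B' ⟶ B) [Flat φ.left] [Surjective φ.left]
    [UniversallyInjective φ.left] [UniversallyOpen φ.left]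
    (X : Space S) {P : Sp S} {f : X.obj ⟶ (yon S).obj B} {fst : P ⟶ X.obj} {snd : P ⟶ (yon S).obj B'}
    (sqP : IsPullback fst snd f ((yon S).map φ)) (h : P.obj.IsRepresentable) :
    X.obj.obj.IsRepresentable := by
  obtain ⟨M, ⟨e⟩⟩ := K610.ZarGlue.isRepresentable_iff.1 h
  rw [K610.SchLocus.isRepresentable_iff_forall]
  intro x
  have hsur : Function.Surjective (Points.map fst) :=
    surjective_of_repWith (MorphismProperty.of_isPullback (P := RepWith @Surjective) sqP.flip
      ((repWith_yon_map_iff _ _).2 ‹_›))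
  have hopen : IsOpenMap (Points.map fst) :=
    isOpenMap_of_repWith (MorphismProperty.of_isPullback (P := RepWith @UniversallyOpen) sqP.flip
      ((repWith_yon_map_iff _ _).2 ‹_›))
  have hinj : Function.Injective (Points.map fst) :=
    K597.UnivInj.injective_of_repWith (MorphismProperty.of_isPullback
      (P := RepWith @UniversallyInjective) sqP.flip ((repWith_yon_map_iff _ _).2 ‹_›))
  obtain ⟨z, rfl⟩ := hsur x
  obtain ⟨m, rfl⟩ := K610.SchLocus.surjective_ofPt_iso e z
  obtain ⟨V, hV, hm, -⟩ := exists_isAffineOpen_mem_and_subset (X := M.left) (x := m) (U := ⊤) trivial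
  let V' : Over S := Over.mk (V.ι ≫ M.hom)
  let i : V' ⟶ M := Over.homMk V.ι rfl
  have hi : RepWith @IsOpenImmersion ((yon _).map i ≫ e.hom) :=
    MorphismProperty.comp_mem (RepWith @IsOpenImmersion) _ _
      ((repWith_yon_map_iff _ _).2 (inferInstanceAs (IsOpenImmersion V.ι))) (K610.SchLocus.repWith_iso e)
  have ho : IsOpen (Set.range (Points.ofPt ((yon _).map i ≫ e.hom))) :=
    (K610.Base.isOpenMap_ofPt_etale (K610.OpenImm.repWith_etale_of_open hi)).isOpen_range
  obtain ⟨X', j, hj, hr⟩ := K610.Sub.exists_open_subspace X _ (hopen _ ho)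
  have sq := IsPullback.of_hasPullback fst j.hom
  have hj' : RepWith @IsOpenImmersion (pullback.fst fst j.hom) :=
    MorphismProperty.of_isPullback (P := RepWith @IsOpenImmersion) sq.flip hj
  obtain ⟨c, -⟩ := exists_iso_of_range_eq hi hj' (by
    have h1 : Set.range (Points.map (pullback.fst fst j.hom)) =
        Points.map fst ⁻¹' Set.range (Points.map j.hom) := by
      ext x
      constructor
      · rintro ⟨y, rfl⟩
        refine ⟨Points.map (pullback.snd _ _) y, ?_⟩
        rw [← Points.map_comp, ← Points.map_comp, pullback.condition]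
      · rintro ⟨z, hz⟩
        obtain ⟨y, hy, -⟩ := K610.Base.exists_of_isPullback sq x z hz.symm
        exact ⟨y, hy⟩
    rw [h1, hr, Set.preimage_image_eq _ hinj, K610.SchLocus.range_ofPt])
  have sq2 := (sq.flip.paste_vert sqP)
  obtain ⟨A, -, ⟨a⟩⟩ := exists_affine_of_pb φ X'.property (f := j.hom ≫ f)
    (fst := pullback.snd fst j.hom) (snd := pullback.fst fst j.hom ≫ snd) sq2 V' hV c
  refine ⟨_, (K610.SchLocus.isSch_iff hj).2 (K610.ZarGlue.isRepresentable_iff.2 ⟨A, ⟨a⟩⟩), ?_⟩
  rw [hr]
  refine ⟨_, ⟨⟨m, hm⟩, rfl⟩, ?_⟩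
  rw [K610.Base.ofPt_map_comp]
  rfl

end K625.Desc2
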