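import Groth.Agent.S10459

/-!
Dimension formula for proper dominant morphisms of integral algebraic spaces (helper625).
-/

set_option autoImplicit false
universe u
open CategoryTheory CategoryTheory.Limits AlgebraicGeometry Topology TopologicalSpace Opposite
open AlgSp

namespace K625.DimEq

open K621.Base K621.Decent K621.Generic

variable {S : Scheme.{u}}

/-- The point `x` has codimension at least `n`. -/
abbrev CodimGE (X : Sp S) (n : ℕ) (x : Points X) : Prop :=
  HasAt (fun U u => (n : WithBot ℕ∞) ≤ ringKrullDim ↥(U.presheaf.stalk u)) X x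

theorem codimGE_iff {X : Sp S} {n : ℕ} {U : Over S} {a : (yon S).obj U ⟶ X} (ha : RepWith @Etale a)
    (u : ↥U.left) : CodimGE X n (Points.ofPt a u) ↔ (n : ℕ∞) ≤ Order.coheight u := by
  rw [CodimGE, K616.Inv.hasAt_iff (K616.DimInv.etInvAt_stalkDim fun d => (n : WithBot ℕ∞) ≤ d) a ha u,
    ringKrullDim_stalk_eq_coheight]
  exact WithBot.coe_le_coe

theorem CodimGE.of_specializes {X : Sp S} (hX : IsAlgSpace X) {n : ℕ} {x x' : Points X}
    (h : CodimGE X n x) (hd : FinFibres X x) (hs : x ⤳ x') : CodimGE X n x' := by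
  obtain ⟨V, b, v, hb, rfl⟩ := exists_chart hX x'
  obtain ⟨v', hv', rfl⟩ := exists_generization_lift hd hb hs
  rw [codimGE_iff hb] at h ⊢
  exact h.trans (Order.coheight_anti hv')

theorem CodimGE.succ {X : Sp S} (hX : IsAlgSpace X) {n : ℕ} {x x' : Points X}
    (h : CodimGE X n x) (hd : FinFibres X x) (hs : x ⤳ x') (hne : x ≠ x') : CodimGE X (n + 1) x' := by
  obtain ⟨V, b, v, hb, rfl⟩ := exists_chart hX x'
  obtain ⟨v', hv', rfl⟩ := exists_generization_lift hd hb hs
  rw [codimGE_iff hb] at h ⊢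
  have h1 : v < v' := by
    refine lt_of_le_not_ge hv' fun h2 => hne ?_
    have h3 : v ⤳ v' := h2
    rw [(hv'.antisymm h3).eq]
  refine le_trans ?_ (Order.coheight_add_one_le h1)
  push_cast
  gcongr

theorem CodimGE.le_dim {X : Sp S} {n : ℕ} {x : Points X} (h : CodimGE X n x) :
    (n : WithBot ℕ∞) ≤ dim X := by
  obtain ⟨U, a, u, ha, rfl, h⟩ := h
  refine le_trans h ?_
  rw [ringKrullDim_stalk_eq_coheight]
  have h1 : topologicalKrullDim ↥U.left = Order.krullDim ↥U.left :=
    Order.krullDim_eq_of_orderIso irreducibleSetEquivPoints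
  have h2 : ((Order.coheight u : ℕ∞) : WithBot ℕ∞) ≤ topologicalKrullDim ↥U.left := by
    rw [h1, Order.krullDim_eq_iSup_coheight]
    exact le_iSup (fun a => ((Order.coheight a : ℕ∞) : WithBot ℕ∞)) u
  exact h2.trans (le_iSup_of_le U (le_iSup_of_le a (le_iSup
    (fun _ : RepWith @Etale a => topologicalKrullDim ↥U.left) ha)))

theorem exists_specializes {X Y : Sp S} {f : X ⟶ Y} (hf : IsClosedMap (Points.map f)) {x : Points X}
    {y : Points Y} (h : Points.map f x ⤳ y) : ∃ x', x ⤳ x' ∧ Points.map f x' = y := by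
  have h1 : IsClosed (Points.map f '' closure {x}) := hf _ isClosed_closure
  have h2 : y ∈ Points.map f '' closure {x} := by
    refine h1.closure_subset_iff.2 ?_ (specializes_iff_mem_closure.1 h)
    rintro _ rfl
    exact ⟨x, subset_closure rfl, rfl⟩
  obtain ⟨x', hx', rfl⟩ := h2
  exact ⟨x', specializes_iff_mem_closure.2 hx', rfl⟩

/-- In a fibre of dimension at least `r` there are points of codimension at least `r`. -/
theorem exists_coheight_ge {U V : Scheme.{u}} (h : U ⟶ V) [LocallyOfFiniteType h] (u : U) (r : ℕ)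
    (hr : Dual3.resTrdeg h u = (r : Cardinal.{u})) :
    ∃ u₀ : U, h u₀ = h u ∧ (r : ℕ∞) ≤ Order.coheight u₀ := by
  have h1 := K616.DimInv.fibreDimAt_eq_add h u
  rw [hr] at h1
  have h2 : (r : WithBot ℕ∞) ≤ FlatMor.fibreDimAt h u := by
    rw [h1]
    have : Nontrivial ↥((h.fiber (h u)).presheaf.stalk (h.asFiber u)) := inferInstance
    have h0 : (0 : WithBot ℕ∞) ≤ ringKrullDim ↥((h.fiber (h u)).presheaf.stalk (h.asFiber u)) :=
      ringKrullDim_nonneg_of_nontrivial
    have h3 : ((Cardinal.toENat (r : Cardinal.{u}) : ℕ∞) : WithBot ℕ∞) = (r : WithBot ℕ∞) := by simp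
    rw [h3]
    exact le_add_of_nonneg_left h0
  have h3 : (r : WithBot ℕ∞) ≤ topologicalKrullDim ↥(h.fiber (h u)) :=
    h2.trans (Groth.Agent.VarietyB.DimTop.localDim_le_dim _)
  have h4 : topologicalKrullDim ↥(h.fiber (h u)) = Order.krullDim ↥(h.fiber (h u)) :=
    Order.krullDim_eq_of_orderIso irreducibleSetEquivPoints
  rw [h4, Order.le_krullDim_iff] at h3
  obtain ⟨l, hl⟩ := h3
  refine ⟨h.fiberι (h u) l.head, ?_, ?_⟩
  · have := Scheme.Hom.range_fiberι h (h u)
    have h5 : h.fiberι (h u) l.head ∈ Set.range (h.fiberι (h u)) := ⟨_, rfl⟩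
    rw [this] at h5
    exact h5
  · have h6 : StrictMono (h.fiberι (h u)) := by
      intro a b hab
      have he := (h.fiberι (h u)).isEmbedding
      refine lt_of_le_not_ge ?_ ?_
      · exact he.specializes_iff.2 hab.le
      · intro h7
        exact hab.not_ge (he.specializes_iff.1 h7)
    refine le_trans ?_ (Order.coheight_le_coheight_apply_of_strictMono _ h6 _)
    rw [← hl]
    exact Order.length_le_coheight_head

theorem add_le_of_forall (a : WithBot ℕ∞) (r : ℕ) (D : WithBot ℕ∞)
    (h : ∀ n : ℕ, (n : WithBot ℕ∞) ≤ a → ((n + r : ℕ) : WithBot ℕ∞) ≤ D) :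
    a + (r : WithBot ℕ∞) ≤ D := by
  induction a with
  | bot => rw [WithBot.bot_add]; exact bot_le
  | coe a =>
    induction a with
    | top =>
      have : D = ⊤ := ENat.WithBot.eq_top_iff_forall_ge.2 fun m =>
        le_trans (by exact_mod_cast Nat.le_add_right m r) (h m le_top)
      rw [this]
      exact le_top
    | coe n =>
      refine le_trans (le_of_eq ?_) (h n le_rfl)
      push_cast
      rfl

theorem le_dim {X Y : Sp S} (hX : IsAlgSpace X) (hY : IsAlgSpace Y) (f : X ⟶ Y)
    (hXi : IsIntegralSp X) (hYi : IsIntegralSp Y) (hd : IsDominantMor f)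
    (hc : IsClosedMap (Points.map f)) (hft : LocP @LocallyOfFiniteType f)
    (x : Points X) (hx : IsGenericPoint x (Set.univ : Set (Points X))) (r : ℕ)
    (hr : HasAtMor (fun _ _ h u => Dual3.resTrdeg h u = (r : Cardinal.{u})) f x) :
    dim Y + (r : WithBot ℕ∞) ≤ dim X := by
  have hdX : ∀ x, FinFibres X x := finFibres_of_isDecent hXi.2.1
  have hdY : ∀ x, FinFibres Y x := finFibres_of_isDecent hYi.2.1
  have hη : ∀ y, Points.map f x ⤳ y := by
    intro y
    rw [specializes_iff_mem_closure]
    have h1 : Set.range (Points.map f) ⊆ closure {Points.map f x} := by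
      rintro _ ⟨x', rfl⟩
      exact specializes_iff_mem_closure.1 ((hx.specializes (Set.mem_univ x')).map (Points.continuous_map f))
    exact closure_minimal h1 isClosed_closure (hd y)
  obtain ⟨x₀, hx₀, hx₀r⟩ : ∃ x₀, Points.map f x₀ = Points.map f x ∧ CodimGE X r x₀ := by
    obtain ⟨U, V, a, b, h, u, ha, hb, w, hu, hr'⟩ := hr
    have : LocallyOfFiniteType h.left := hft a b h ha hb w
    obtain ⟨u₀, h1, h2⟩ := exists_coheight_ge h.left u r hr'
    refine ⟨Points.ofPt a u₀, ?_, (codimGE_iff ha u₀).2 h2⟩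
    rw [← hu, Points.map_ofPt, Points.map_ofPt, w, ofPt_comp, ofPt_comp, h1]
  have key : ∀ (T : Over S) (c : (yon S).obj T ⟶ Y), RepWith @Etale c → ∀ (n : ℕ) (t : ↥T.left),
      (n : ℕ∞) ≤ Order.coheight t → ∃ z, Points.map f z = Points.ofPt c t ∧ CodimGE X (n + r) z := by
    intro T c hc' n
    induction n with
    | zero =>
      intro t _
      obtain ⟨z, hz, hz'⟩ := exists_specializes hc (x := x₀) (y := Points.ofPt c t)
        (by rw [hx₀]; exact hη _)
      refine ⟨z, hz', ?_⟩
      rw [Nat.zero_add]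
      exact hx₀r.of_specializes hX (hdX _) hz
    | succ n ih =>
      intro t ht
      rw [Order.coheight_eq_iSup_gt_coheight] at ht
      have h1 : (n : ℕ∞) < ⨆ y > t, Order.coheight y + 1 := lt_of_lt_of_le (by exact_mod_cast n.lt_succ_self) ht
      simp only [lt_iSup_iff] at h1
      obtain ⟨t', htt', h2⟩ := h1
      obtain ⟨z, hz, hz'⟩ := ih t' (ENat.natCast_lt_add_one_iff.1 h2)
      have h3 : t' ⤳ t := htt'.le
      have h4 : Points.ofPt c t' ⤳ Points.ofPt c t := h3.map (Points.continuous_ofPt c)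
      have h5 : Points.ofPt c t' ≠ Points.ofPt c t := by
        intro h6
        have h7 := K621.Decent.eq_of_specializes hY hc' h3 h6 (hdY _)
        exact lt_irrefl _ (h7 ▸ htt' : t < t)
      obtain ⟨z', hzz', hz''⟩ := exists_specializes hc (x := z) (y := Points.ofPt c t) (by rw [hz]; exact h4)
      refine ⟨z', hz'', ?_⟩
      have := hz'.succ hX (hdX _) hzz' (fun h => h5 (by rw [← hz, ← hz'', h]))
      rwa [show n + 1 + r = n + r + 1 by ring]
  refine add_le_of_forall _ r _ fun n hn => ?_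
  rcases n with _ | n
  · rw [Nat.zero_add]
    exact hx₀r.le_dim
  · have h1 : (n : WithBot ℕ∞) < dim Y := by
      refine ENat.WithBot.add_one_le_iff.1 ?_
      exact_mod_cast hn
    simp only [dim, lt_iSup_iff] at h1
    obtain ⟨T, c, hc', h2⟩ := h1
    have h3 : ((n + 1 : ℕ) : WithBot ℕ∞) ≤ topologicalKrullDim ↥T.left := by
      have := ENat.WithBot.add_one_le_iff.2 h2
      exact_mod_cast this
    have h4 : topologicalKrullDim ↥T.left = Order.krullDim ↥T.left :=
      Order.krullDim_eq_of_orderIso irreducibleSetEquivPoints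
    rw [h4, Order.le_krullDim_iff] at h3
    obtain ⟨l, hl⟩ := h3
    obtain ⟨z, -, hz⟩ := key T c hc' (n + 1) l.head (by
      rw [← hl]
      exact Order.length_le_coheight_head)
    exact hz.le_dim

end K625.DimEq
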