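import Groth.Agent.AlgSp.K625.Prod
import Groth.Agent.VarietyA.GeomIrrB

/-!
Field extensions as objects of `Over (Spec k)`; geometric connectedness of extensions of a separably
closed field (helper625).
-/

set_option autoImplicit false
universe u
open CategoryTheory CategoryTheory.Limits AlgebraicGeometry Topology TopologicalSpace Opposite
open AlgSp
open scoped TensorProduct

namespace K625.Fld

/-- `Spec K` over `Spec k`. -/
noncomputable abbrev fld (k : Type u) [Field k] (K : Type u) [CommRing K] [Algebra k K] :
    Over (Spec (CommRingCat.of k)) :=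
  Over.mk (Spec.map (CommRingCat.ofHom (algebraMap k K)))

variable {k : Type u} [Field k]

/-- `X ⨯ h_{Spec K}`. -/
noncomputable abbrev bcs (X : Sp (Spec (CommRingCat.of k))) (K : Type u) [CommRing K]
    [Algebra k K] : Sp (Spec (CommRingCat.of k)) := X ⨯ (yon _).obj (fld k K)

/-- The morphism over `Spec k` given by a `k`-algebra map. -/
noncomputable def homOf {K L : Type u} [CommRing K] [CommRing L] [Algebra k K] [Algebra k L]
    (φ : K →ₐ[k] L) : fld k L ⟶ fld k K :=
  Over.homMk (Spec.map (CommRingCat.ofHom φ.toRingHom)) (by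
    simp only [Over.mk_left, Over.mk_hom, ← Spec.map_comp, ← CommRingCat.ofHom_comp]
    congr 2
    exact φ.comp_algebraMap)

theorem homOf_left {K L : Type u} [CommRing K] [CommRing L] [Algebra k K] [Algebra k L]
    (φ : K →ₐ[k] L) : (homOf φ).left = Spec.map (CommRingCat.ofHom φ.toRingHom) := rfl

theorem universallyOpen_specMap {K : Type u} [Field K] {R : Type u} [CommRing R] (φ : K →+* R) :
    UniversallyOpen (Spec.map (CommRingCat.ofHom φ)) := inferInstance

theorem universallyOpen_homOf {K L : Type u} [Field K] [CommRing L] [Algebra k K] [Algebra k L]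
    (φ : K →ₐ[k] L) : UniversallyOpen (homOf φ).left := universallyOpen_specMap _

theorem surjective_specMap {K : Type u} [Field K] {R : Type u} [CommRing R] [Nontrivial R]
    (φ : K →+* R) : Surjective (Spec.map (CommRingCat.ofHom φ)) :=
  ⟨fun x => ⟨Classical.arbitrary (PrimeSpectrum R), Subsingleton.elim _ _⟩⟩

theorem surjective_homOf {K L : Type u} [Field K] [Field L] [Algebra k K] [Algebra k L]
    (φ : K →ₐ[k] L) : Surjective (homOf φ).left := surjective_specMap _

theorem irreducibleSpace_tensor (K L M : Type u) [Field K] [IsSepClosed K] [Field L] [Field M]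
    [Algebra K L] [Algebra K M] : IrreducibleSpace (PrimeSpectrum (L ⊗[K] M)) :=
  PrimeSpectrum.irreducibleSpace_iff_isPrime_nilradical.2
    (Groth.Agent.VarietyA.GeomIrr.isPrime_nilradical_tensorProduct (k := K) L M)

/-- An extension of a separably closed field is geometrically connected. -/
theorem geometricallyConnected_specMap {K L : Type u} [Field K] [IsSepClosed K] [Field L]
    (φ : K →+* L) : GeometricallyConnected (Spec.map (CommRingCat.ofHom φ)) := by
  algebraize [φ]
  refine ⟨geometrically_iff_of_commRing_of_isClosedUnderIsomorphisms.2 fun M _ _ => ?_⟩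
  have := irreducibleSpace_tensor K L M
  have h : ConnectedSpace ↥(Spec (CommRingCat.of (L ⊗[K] M))) :=
    inferInstanceAs (ConnectedSpace (PrimeSpectrum (L ⊗[K] M)))
  exact (pullbackSpecIso K L M).inv.homeomorph.surjective.connectedSpace
    (pullbackSpecIso K L M).inv.homeomorph.continuous

theorem geometricallyConnected_homOf {K L : Type u} [Field K] [IsSepClosed K] [Field L]
    [Algebra k K] [Algebra k L] (φ : K →ₐ[k] L) : GeometricallyConnected (homOf φ).left :=
  geometricallyConnected_specMap _

/-- Every structure morphism `Spec K ⟶ Spec k` comes from an algebra structure. -/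
theorem exists_algebra {K : Type u} [Field K] (str : Spec (CommRingCat.of K) ⟶ Spec (CommRingCat.of k)) :
    ∃ _ : Algebra k K, str = Spec.map (CommRingCat.ofHom (algebraMap k K)) := by
  obtain ⟨φ, rfl⟩ := Spec.map_surjective str
  exact ⟨φ.hom.toAlgebra, rfl⟩

/-- Two extensions of a field have a common extension. -/
theorem exists_common (K L : Type u) [Field K] [Field L] [Algebra k K] [Algebra k L] :
    ∃ (Ω : Type u) (_ : Field Ω) (_ : Algebra k Ω), Nonempty (K →ₐ[k] Ω) ∧ Nonempty (L →ₐ[k] Ω) := by
  obtain ⟨Ω, _, i, j, h⟩ := FieldPt.exists_amalgamation (algebraMap k K) (algebraMap k L)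
  let _ : Algebra k Ω := (i.comp (algebraMap k K)).toAlgebra
  exact ⟨Ω, inferInstance, inferInstance, ⟨⟨i, fun r => rfl⟩⟩,
    ⟨⟨j, fun r => (DFunLike.congr_fun h r).symm⟩⟩⟩

section

variable (X : Sp (Spec (CommRingCat.of k)))

/-- `X_L ⟶ X_K`. -/
noncomputable abbrev bcMap {K L : Type u} [CommRing K] [CommRing L] [Algebra k K] [Algebra k L]
    (φ : K →ₐ[k] L) : bcs X L ⟶ bcs X K := prod.map (𝟙 X) ((yon _).map (homOf φ))

theorem isOpenMap_bcMap {K L : Type u} [Field K] [Field L] [Algebra k K] [Algebra k L]
    (φ : K →ₐ[k] L) : IsOpenMap (Points.map (bcMap X φ)) :=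
  K625.Prod.isOpenMap_of_repWith
    (K625.Prod.repWith_map_right @UniversallyOpen X _ (universallyOpen_homOf φ))

theorem surjective_bcMap {K L : Type u} [Field K] [Field L] [Algebra k K] [Algebra k L]
    (φ : K →ₐ[k] L) : Function.Surjective (Points.map (bcMap X φ)) :=
  K625.Prod.surjective_of_repWith
    (K625.Prod.repWith_map_right @Surjective X _ (surjective_homOf φ))

theorem isOpenMap_fst (K : Type u) [CommRing K] [Algebra k K] :
    IsOpenMap (Points.map (Limits.prod.fst : bcs X K ⟶ X)) :=
  K625.Prod.isOpenMap_of_repWith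
    (K625.Prod.repWith_fst @UniversallyOpen X _ (universallyOpen_specMap _))

theorem surjective_fst (K : Type u) [CommRing K] [Nontrivial K] [Algebra k K] :
    Function.Surjective (Points.map (Limits.prod.fst : bcs X K ⟶ X)) :=
  K625.Prod.surjective_of_repWith
    (K625.Prod.repWith_fst @Surjective X _ (surjective_specMap _))

theorem connectedSpace_of_bcMap {K L : Type u} [Field K] [Field L] [Algebra k K] [Algebra k L]
    (φ : K →ₐ[k] L) [ConnectedSpace (Points (bcs X L))] : ConnectedSpace (Points (bcs X K)) :=
  K625.Prod.connectedSpace_target (surjective_bcMap X φ)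

theorem connectedSpace_bc_of_isSepClosed {K L : Type u} [Field K] [Field L] [Algebra k K] [Algebra k L]
    [IsSepClosed K] (φ : K →ₐ[k] L) [ConnectedSpace (Points (bcs X K))] :
    ConnectedSpace (Points (bcs X L)) :=
  K625.Prod.connectedSpace_source (f := bcMap X φ)
    (K625.Prod.repWith_map_right @UniversallyOpen X _ (universallyOpen_homOf φ))
    (K625.Prod.repWith_map_right @GeometricallyConnected X _ (geometricallyConnected_homOf φ))

end

end K625.Fld
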