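import Groth.Agent.AlgSp.K625.Level

/-!
Galois orbits on `|X_K|` (helper625).
-/

set_option autoImplicit false
universe u
open CategoryTheory CategoryTheory.Limits AlgebraicGeometry Topology TopologicalSpace Opposite
open AlgSp
open K625.Fld (fld bcs homOf bcMap)
open scoped TensorProduct

namespace K625.Galois

variable {k : Type u} [Field k] {K : Type u} [Field K] [Algebra k K]

/-- Two embeddings of a normal extension differ by an automorphism. -/
theorem exists_aut [Normal k K] {Ω : Type u} [Field Ω] [Algebra k Ω] (φ ψ : K →ₐ[k] Ω) :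
    ∃ σ : K ≃ₐ[k] K, ψ = φ.comp σ.toAlgHom := by
  let _ : Algebra K Ω := φ.toRingHom.toAlgebra
  have : IsScalarTower k K Ω := IsScalarTower.of_algebraMap_eq fun x => (φ.commutes x).symm
  refine ⟨ψ.restrictNormal' K, ?_⟩
  ext x
  exact (AlgHom.restrictNormal_commutes ψ K x).symm

/-- Every morphism between spectra over `Spec k` comes from an algebra map. -/
theorem exists_homOf {A B : Type u} [CommRing A] [CommRing B] [Algebra k A] [Algebra k B]
    (g : fld k B ⟶ fld k A) : ∃ φ : A →ₐ[k] B, g = homOf φ := by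
  obtain ⟨φ, hφ⟩ := Spec.map_surjective g.left
  have hw : CommRingCat.ofHom (algebraMap k A) ≫ φ = CommRingCat.ofHom (algebraMap k B) := by
    apply Spec.map_injective
    rw [Spec.map_comp, hφ]
    exact Over.w g
  refine ⟨⟨φ.hom, fun r => ?_⟩, ?_⟩
  · exact congrArg (fun f => f.hom r) hw
  · apply Over.OverMorphism.ext
    rw [← hφ]
    rfl

/-- Sections of a product of sheaves are determined by their components. -/
theorem section_ext {S : Scheme.{u}} {F G : Sp S} {T : Over S} (s s' : (F ⨯ G).obj.obj (op T))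
    (h1 : (prod.fst : F ⨯ G ⟶ F).hom.app (op T) s = (prod.fst : F ⨯ G ⟶ F).hom.app (op T) s')
    (h2 : (prod.snd : F ⨯ G ⟶ G).hom.app (op T) s = (prod.snd : F ⨯ G ⟶ G).hom.app (op T) s') :
    s = s' := by
  have h := ((K625.Prod.isPullback_prod F G).map (sheafToPresheaf _ _)).map
    ((evaluation _ _).obj (op T))
  exact Types.ext_of_isPullback h h1 h2

/-- Points of `|X_K|` with the same image in `|X|` are conjugate. -/
theorem exists_conj (X : Sp (Spec (CommRingCat.of k))) [Normal k K] (x y : Points (bcs X K))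
    (h : Points.map (prod.fst : bcs X K ⟶ X) x = Points.map prod.fst y) :
    ∃ σ : K ≃ₐ[k] K, Points.map (bcMap X σ.toAlgHom) x = y := by
  induction x using Points.ind with
  | h p =>
    induction y using Points.ind with
    | h q =>
      rw [Points.map_mk, Points.map_mk, Points.mk_eq_mk_iff] at h
      obtain ⟨Ω, _, w, a', b', e⟩ := h
      obtain ⟨a, ha⟩ : ∃ a : Over.mk w ⟶ p.pt, a = a' := ⟨a', rfl⟩
      obtain ⟨b, hb⟩ : ∃ b : Over.mk w ⟶ q.pt, b = b' := ⟨b', rfl⟩
      have e' : (prod.fst : bcs X K ⟶ X).hom.app _ ((bcs X K).obj.map a.op p.val) =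
          (prod.fst : bcs X K ⟶ X).hom.app _ ((bcs X K).obj.map b.op q.val) := by
        rw [NatTrans.naturality_apply, NatTrans.naturality_apply]
        subst ha hb
        exact e
      rw [← K625.Points.mk_restrict p a, ← K625.Points.mk_restrict q b]
      generalize (bcs X K).obj.map a.op p.val = s at e' ⊢
      generalize (bcs X K).obj.map b.op q.val = s' at e' ⊢
      obtain ⟨_, rfl⟩ := K625.Fld.exists_algebra w
      obtain ⟨⟨g⟩, hg⟩ : ∃ g : ((yon _).obj (fld k K)).obj.obj (op (fld k Ω)),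
        (prod.snd : bcs X K ⟶ _).hom.app (op (fld k Ω)) s = g := ⟨_, rfl⟩
      obtain ⟨⟨g'⟩, hg'⟩ : ∃ g : ((yon _).obj (fld k K)).obj.obj (op (fld k Ω)),
        (prod.snd : bcs X K ⟶ _).hom.app (op (fld k Ω)) s' = g := ⟨_, rfl⟩
      obtain ⟨φ, rfl⟩ := exists_homOf g
      obtain ⟨ψ, rfl⟩ := exists_homOf g'
      obtain ⟨σ, rfl⟩ := exists_aut φ ψ
      refine ⟨σ, ?_⟩
      rw [Points.map_mk]
      refine congrArg (fun t => Points.mk (⟨Ω, _, t⟩ : FieldPt (bcs X K))) ?_
      refine section_ext _ _ ?_ ?_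
      · rw [← e']
        have h1 : bcMap X σ.toAlgHom ≫ prod.fst = prod.fst := by
          rw [prod.map_fst, Category.comp_id]
        conv_rhs => rw [← h1]
        rfl
      · rw [hg']
        have h1 : bcMap X σ.toAlgHom ≫ prod.snd = prod.snd ≫ (yon _).map (homOf σ.toAlgHom) :=
          prod.map_snd _ _
        have h2 : (bcMap X σ.toAlgHom ≫ prod.snd).hom.app (op (fld k Ω)) s =
          (prod.snd ≫ (yon _).map (homOf σ.toAlgHom)).hom.app (op (fld k Ω)) s := by rw [h1]
        refine h2.trans ?_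
        change ((yon _).map (homOf σ.toAlgHom)).hom.app (op (fld k Ω))
          ((prod.snd : bcs X K ⟶ _).hom.app (op (fld k Ω)) s) = _
        rw [hg]
        exact congrArg ULift.up (K625.Tensor.homOf_comp _ _)

theorem exists_closed_descent (X : Sp (Spec (CommRingCat.of k))) [Normal k K]
    (T : Set (Points (bcs X K))) (hT : IsClosed T)
    (hσ : ∀ σ : K ≃ₐ[k] K, Points.map (bcMap X σ.toAlgHom) '' T = T) :
    ∃ T₀ : Set (Points X), IsClosed T₀ ∧ Points.map (prod.fst : bcs X K ⟶ X) ⁻¹' T₀ = T := by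
  refine ⟨(Points.map (prod.fst : bcs X K ⟶ X) '' Tᶜ)ᶜ,
    (K625.Fld.isOpenMap_fst X K _ hT.isOpen_compl).isClosed_compl, ?_⟩
  ext x
  constructor
  · intro hx
    by_contra hxT
    exact hx ⟨x, hxT, rfl⟩
  · rintro hx ⟨y, hy, e⟩
    obtain ⟨σ, rfl⟩ := exists_conj X x y e.symm
    refine hy ?_
    rw [← hσ σ]
    exact ⟨x, hx, rfl⟩

/-- A subset saturated at a level is stable under the Galois group of that level. -/
theorem image_eq_of_sat (X : Sp (Spec (CommRingCat.of k))) {k' : IntermediateField k K}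
    {V : Set (Points (bcs X K))} (h : K625.Level.Sat X k' V) (σ : K ≃ₐ[k] K)
    (hσ : σ ∈ k'.fixingSubgroup) : Points.map (bcMap X σ.toAlgHom) '' V = V := by
  have key : ∀ τ : K ≃ₐ[k] K, τ ∈ k'.fixingSubgroup → ∀ x, Points.map (bcMap X k'.val)
      (Points.map (bcMap X τ.toAlgHom) x) = Points.map (bcMap X k'.val) x := by
    intro τ hτ x
    have h1 : τ.toAlgHom.comp k'.val = k'.val := by
      ext y
      exact hτ y
    rw [← Points.map_comp]
    have : bcMap X τ.toAlgHom ≫ bcMap X k'.val = bcMap X k'.val := by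
      rw [bcMap, bcMap, prod.map_map, Category.comp_id, ← Functor.map_comp,
        K625.Tensor.homOf_comp, h1]
    rw [this]
  apply Set.Subset.antisymm
  · rintro _ ⟨x, hx, rfl⟩
    exact h _ _ (key σ hσ x).symm hx
  · intro x hx
    refine ⟨Points.map (bcMap X (σ⁻¹ : K ≃ₐ[k] K).toAlgHom) x,
      h _ _ (key σ⁻¹ (inv_mem hσ) x).symm hx, ?_⟩
    rw [← Points.map_comp]
    have : bcMap X (σ⁻¹ : K ≃ₐ[k] K).toAlgHom ≫ bcMap X σ.toAlgHom = 𝟙 _ := by
      rw [bcMap, bcMap, prod.map_map, Category.comp_id, ← Functor.map_comp,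
        K625.Tensor.homOf_comp]
      have h1 : (σ⁻¹ : K ≃ₐ[k] K).toAlgHom.comp σ.toAlgHom = AlgHom.id k K := by
        ext y
        exact σ.symm_apply_apply y
      rw [h1]
      have h2 : homOf (AlgHom.id k K) = 𝟙 (fld k K) := by
        apply Over.OverMorphism.ext
        exact Spec.map_id _
      rw [h2, (yon _).map_id, prod.map_id_id]
    rw [this, Points.map_id]

end K625.Galois
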