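import Groth.Agent.AlgSp.K625.Fld

/-!
Geometrically connected algebraic spaces: `X ⨯ Y ⟶ Y` is open with connected fibres (helper625).
-/

set_option autoImplicit false
universe u
open CategoryTheory CategoryTheory.Limits AlgebraicGeometry Topology TopologicalSpace Opposite
open AlgSp

namespace K625.GeomConn

variable {S : Scheme.{u}}

theorem isOpenMap_of_comp {F G H : Sp S} (p : F ⟶ G) (f : G ⟶ H)
    (hp : Function.Surjective (Points.map p)) (h : IsOpenMap (Points.map (p ≫ f))) :
    IsOpenMap (Points.map f) := by
  intro W hW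
  have : Points.map f '' W = Points.map (p ≫ f) '' (Points.map p ⁻¹' W) := by
    ext y
    constructor
    · rintro ⟨x, hx, rfl⟩
      obtain ⟨z, rfl⟩ := hp x
      exact ⟨z, hx, Points.map_comp _ _ _⟩
    · rintro ⟨z, hz, rfl⟩
      exact ⟨_, hz, (Points.map_comp _ _ _).symm⟩
  rw [this]
  exact h _ (hW.preimage (Points.continuous_map p))

variable {k : Type u} [Field k]

/-- `X ⨯ Y ⟶ Y` is open over a field. -/
theorem isOpenMap_snd (X : Space (Spec (CommRingCat.of k))) (Y : Sp (Spec (CommRingCat.of k))) :
    IsOpenMap (Points.map (Limits.prod.snd : X.obj ⨯ Y ⟶ Y)) := by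
  obtain ⟨U, a, -, ha⟩ := X.property.atlas
  refine isOpenMap_of_comp (prod.map a (𝟙 Y)) _ ?_ ?_
  · exact K625.Prod.surjective_of_repWith
      (K625.Prod.repWith_of_isPullback @Surjective (K625.Prod.isPullback_map_left Y a) ha)
  · rw [prod.map_snd, Category.comp_id]
    exact K625.Prod.isOpenMap_of_repWith (K625.Prod.repWith_snd @UniversallyOpen Y U inferInstance)

theorem bijective_snd (X : Space (Spec (CommRingCat.of k))) (Y : Sp (Spec (CommRingCat.of k)))
    (hX : ∀ (K : Type u) [Field K] [Algebra k K],
      ConnectedSpace (Points (K625.Fld.bcs X.obj K))) :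
    Function.Bijective (Continuous.connectedComponentsMap
      (Points.continuous_map (Limits.prod.snd : X.obj ⨯ Y ⟶ Y))) := by
  have H : ∀ y, IsConnected (Points.map (Limits.prod.snd : X.obj ⨯ Y ⟶ Y) ⁻¹' {y}) := by
    intro y
    induction y using Points.ind with
    | h q =>
      obtain ⟨K, str, val⟩ := q
      obtain ⟨_, rfl⟩ := K625.Fld.exists_algebra str
      have := hX K
      exact K625.Points.isConnected_fibre _
        (K625.Prod.isPullback_map_right X.obj (K625.Points.toHom ⟨K, _, val⟩)).flip
  have hs : Function.Surjective (Points.map (Limits.prod.snd : X.obj ⨯ Y ⟶ Y)) :=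
    fun y => (H y).nonempty
  exact ((isOpenMap_snd X Y).isQuotientMap (Points.continuous_map _)
    hs).isCoinducing.connectedComponentsMap_bijective H

end K625.GeomConn
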