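import Groth.Agent.AlgSp.K625.Level
import Mathlib.AlgebraicGeometry.Morphisms.Integral
import Mathlib.FieldTheory.IsSepClosed

/-!
Geometric connectedness is tested on finite separable extensions (helper625).
-/

set_option autoImplicit false
universe u
open CategoryTheory CategoryTheory.Limits AlgebraicGeometry Topology TopologicalSpace Opposite
open AlgSp
open K625.Fld (fld bcs homOf bcMap)
open scoped TensorProduct

namespace K625.GeomConn2

variable {k : Type u} [Field k] {K : Type u} [Field K] [Algebra k K]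

theorem isClosedMap_bcMap (X : Sp (Spec (CommRingCat.of k))) {L : Type u} [Field L] [Algebra k L]
    (φ : L →ₐ[k] K) (hφ : φ.toRingHom.IsIntegral) : IsClosedMap (Points.map (bcMap X φ)) := by
  have : IsIntegralHom (homOf φ).left := IsIntegralHom.SpecMap_iff.2 hφ
  exact K625.Prod.isClosedMap_of_repWith (K625.Prod.repWith_map_right @UniversallyClosed X _
    (inferInstance : UniversallyClosed (homOf φ).left))

theorem compactSpace_bcs_affine (A : Type u) [CommRing A] [Algebra k A] (B : Type u) [CommRing B]
    [Algebra k B] : CompactSpace (Points (bcs ((yon _).obj (fld k A)) B)) := by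
  have : CompactSpace ↥(fld k (A ⊗[k] B)).left :=
    inferInstanceAs (CompactSpace (PrimeSpectrum (A ⊗[k] B)))
  have h := (K625.Tensor.bijective_ofPt_of_isIso (K625.Tensor.tensorMap (k := k) A B)).2
  exact ⟨by
    rw [← h.range_eq]
    exact isCompact_range (Points.continuous_ofPt _)⟩

theorem connectedSpace_of_finite (X : Space (Spec (CommRingCat.of k))) [Algebra.IsAlgebraic k K]
    (H : ∀ k' : IntermediateField k K, FiniteDimensional k k' →
      ConnectedSpace (Points (bcs X.obj k'))) : ConnectedSpace (Points (bcs X.obj K)) := by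
  have h0 := H ⊥ inferInstance
  obtain ⟨x₀⟩ : Nonempty (Points X.obj) :=
    (inferInstance : Nonempty (Points (bcs X.obj (⊥ : IntermediateField k K)))).map
      (Points.map prod.fst)
  obtain ⟨y₀, hy₀⟩ := K625.Fld.surjective_fst X.obj K x₀
  obtain ⟨A, _, _, c, t, hc, ht⟩ := K625.Level.exists_chart X x₀
  refine { toPreconnectedSpace := preconnectedSpace_iff_clopen.2 fun V hV => ?_, toNonempty := ⟨y₀⟩ }
  have := compactSpace_bcs_affine (k := k) A K
  have hVF : IsClopen (Points.map (prod.map c (𝟙 ((yon _).obj (fld k K)))) ⁻¹' V) :=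
    hV.preimage (Points.continuous_map _)
  obtain ⟨k', hk', hs⟩ := K625.Level.exists_sat ⟨(yon _).obj (fld k A), IsAlgSpace.yon_obj _⟩ _
    hVF.isOpen hVF.isClosed.isCompact
  have sq := K625.Level.isPullback_prod_map c ((yon _).map (homOf k'.val))
  have hop := K625.Fld.isOpenMap_bcMap X.obj k'.val
  have hcl := isClosedMap_bcMap X.obj k'.val (fun x =>
    IsIntegral.tower_top (R := k) (A := k') (Algebra.IsIntegral.isIntegral (R := k) x))
  have hk'' := H k' hk'
  -- a point of `|X_{k'}|` over the chart
  obtain ⟨v, hv1, hv2⟩ := K625.Points.exists_of_isPullback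
    (K625.Prod.isPullback_map_left ((yon _).obj (fld k k')) c)
    (Points.ofScheme _ t) (Points.map (bcMap X.obj k'.val) y₀) (by
      rw [← Points.map_comp, prod.map_fst, Category.comp_id, hy₀, ← ht]
      exact (Points.ofPt_eq_map_ofScheme c t).symm)
  have h1 : IsClopen (Points.map (bcMap X.obj k'.val) '' V) := ⟨hcl _ hV.1, hop _ hV.2⟩
  have h2 : IsClopen (Points.map (bcMap X.obj k'.val) '' Vᶜ) :=
    ⟨hcl _ hV.compl.1, hop _ hV.compl.2⟩
  rcases isClopen_iff.1 h1 with h1 | h1
  · left
    exact Set.image_eq_empty.1 h1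
  rcases isClopen_iff.1 h2 with h2 | h2
  · right
    rw [← Set.compl_empty_iff]
    exact Set.image_eq_empty.1 h2
  exfalso
  obtain ⟨a, ha, hav⟩ : Points.map (prod.map c (𝟙 _)) v ∈ Points.map (bcMap X.obj k'.val) '' V := by
    rw [h1]; trivial
  obtain ⟨b, hb, hbv⟩ : Points.map (prod.map c (𝟙 _)) v ∈
    Points.map (bcMap X.obj k'.val) '' Vᶜ := by
    rw [h2]; trivial
  obtain ⟨w, hw1, hw2⟩ := K625.Points.exists_of_isPullback sq v a hav.symm
  obtain ⟨w', hw1', hw2'⟩ := K625.Points.exists_of_isPullback sq v b hbv.symm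
  have := hs w w' (hw1.trans hw1'.symm) (by rw [Set.mem_preimage, hw2]; exact ha)
  rw [Set.mem_preimage, hw2'] at this
  exact hb this

end K625.GeomConn2
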