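import Groth.Agent.AlgSp.K625.Tensor

/-!
Affine etale charts over a field, and finite-level descent of opens of `|X_K|` for `K/k`
algebraic (helper625).
-/

set_option autoImplicit false
universe u
open CategoryTheory CategoryTheory.Limits AlgebraicGeometry Topology TopologicalSpace Opposite
open AlgSp
open K625.Fld (fld bcs homOf bcMap)
open scoped TensorProduct

namespace K625.Level

theorem isPullback_prod_map {C : Type*} [Category C] [HasBinaryProducts C] {F X A B : C}
    (c : F ⟶ X) (f : A ⟶ B) : IsPullback (prod.map (𝟙 F) f) (prod.map c (𝟙 A))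
      (prod.map c (𝟙 B)) (prod.map (𝟙 X) f) :=
  IsPullback.mk' (by simp) (fun T φ φ' h1 h2 => by
      ext
      · simpa using h1 =≫ prod.fst
      · simpa using h2 =≫ prod.snd)
    (fun T a b e => ⟨prod.lift (a ≫ prod.fst) (b ≫ prod.snd), by
      have := e =≫ prod.snd
      ext
      · simp [prod.lift_fst]
      · simpa [prod.lift_snd] using this.symm, by
      have := e =≫ prod.fst
      ext
      · simpa [prod.lift_fst] using this
      · simp [prod.lift_snd]⟩)

section

variable {S : Scheme.{u}}

theorem repWith_comp (P : MorphismProperty Scheme.{u}) [P.IsStableUnderBaseChange]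
    [P.IsMultiplicative] {F G H : Sp S} {f : F ⟶ G} {g : G ⟶ H} (hf : RepWith P f)
    (hg : RepWith P g) : RepWith P (f ≫ g) :=
  MorphismProperty.comp_mem _ _ _ hf hg

theorem repWith_mono {P Q : MorphismProperty Scheme.{u}} (h : P ≤ Q) {F G : Sp S} {f : F ⟶ G}
    (hf : RepWith P f) : RepWith Q f :=
  ⟨hf.1, fun _ _ g fst snd sq => h _ (hf.2 g fst snd sq)⟩

theorem repWith_universallyOpen_of_etale {F G : Sp S} {f : F ⟶ G} (hf : RepWith @Etale f) :
    RepWith @UniversallyOpen f :=
  repWith_mono (fun _ _ g (_ : Etale g) => (inferInstance : UniversallyOpen g)) hf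

end

variable {k : Type u} [Field k]

theorem exists_affine {U : Scheme.{u}} (u : ↥U) : ∃ (R : CommRingCat.{u}) (j : Spec R ⟶ U)
    (t : ↥(Spec R)), IsOpenImmersion j ∧ j t = u := by
  obtain ⟨V, hV, hu, -⟩ := exists_isAffineOpen_mem_and_subset (x := u) (U := ⊤) trivial
  exact ⟨_, hV.fromSpec, hV.primeIdealOf ⟨u, hu⟩, inferInstance,
    hV.fromSpec_primeIdealOf ⟨u, hu⟩⟩

theorem exists_chart_aux {R : CommRingCat.{u}} (X : Space (Spec R))
    (x : Points X.obj) :
    ∃ (A : CommRingCat.{u}) (φ : R ⟶ A) (c : (yon _).obj (Over.mk (Spec.map φ)) ⟶ X.obj)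
      (t : ↥(Over.mk (Spec.map φ)).left), RepWith @Etale c ∧ Points.ofPt c t = x := by
  obtain ⟨U, p, hp, hs⟩ := X.property.atlas
  obtain ⟨u, rfl⟩ := K625.Prod.surjective_ofPt hs x
  obtain ⟨A, j, t, hj, ht⟩ := exists_affine u
  obtain ⟨φ, hφ⟩ := Spec.map_surjective (j ≫ U.hom)
  obtain ⟨g, hg⟩ : ∃ g : Over.mk (Spec.map φ) ⟶ U, g.left = j := ⟨Over.homMk j hφ.symm, rfl⟩
  refine ⟨A, φ, (yon _).map g ≫ p, t, ?_, ?_⟩
  · refine repWith_comp @Etale ((repWith_yon_map_iff @Etale _).2 ?_) hp
    rw [hg]
    exact (inferInstance : Etale j)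
  · rw [K625.Points.ofPt_yon_map_comp g p t, hg]
    exact congrArg (Points.ofPt p) ht

/-- Every point of an algebraic space over an affine scheme lies on an affine etale chart. -/
theorem exists_chart {R : Type u} [CommRing R] (X : Space (Spec (CommRingCat.of R)))
    (x : Points X.obj) :
    ∃ (A : Type u) (_ : CommRing A) (_ : Algebra R A)
      (c : (yon _).obj (Over.mk (Spec.map (CommRingCat.ofHom (algebraMap R A)))) ⟶ X.obj)
      (t : ↥(Over.mk (Spec.map (CommRingCat.ofHom (algebraMap R A)))).left),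
      RepWith @Etale c ∧ Points.ofPt c t = x := by
  obtain ⟨A, φ, c, t, h1, h2⟩ := exists_chart_aux X x
  exact ⟨A, inferInstance, φ.hom.toAlgebra, c, t, h1, h2⟩

variable {K : Type u} [Field K] [Algebra k K]

/-- The topology of `|X_K|` comes from finite levels when `K/k` is algebraic. -/
theorem exists_level (X : Space (Spec (CommRingCat.of k))) [Algebra.IsAlgebraic k K]
    (x : Points (bcs X.obj K)) (W : Set (Points (bcs X.obj K)))
    (hW : IsOpen W) (hx : x ∈ W) :
    ∃ (k' : IntermediateField k K) (_ : FiniteDimensional k k')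
      (W' : Set (Points (bcs X.obj k'))), IsOpen W' ∧
      Points.map (bcMap X.obj k'.val) x ∈ W' ∧ Points.map (bcMap X.obj k'.val) ⁻¹' W' ⊆ W := by
  obtain ⟨A, _, _, c, t, hc, ht⟩ := exists_chart X (Points.map prod.fst x)
  -- the chart over `K` and a point on it over `x`
  obtain ⟨y, hy1, hy2⟩ := K625.Points.exists_of_isPullback
    (K625.Prod.isPullback_map_left ((yon _).obj (fld k K)) c)
    (Points.ofScheme _ t) x (by rw [← ht]; exact (Points.ofPt_eq_map_ofScheme c t).symm)
  obtain ⟨k', hk', W', hW', h1, h2⟩ := K625.Tensor.exists_level_affine A y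
    (Points.map (prod.map c (𝟙 _)) ⁻¹' W) (hW.preimage (Points.continuous_map _))
    (by rw [Set.mem_preimage, hy2]; exact hx)
  have sq := isPullback_prod_map c ((yon _).map (homOf k'.val))
  have hop : IsOpenMap (Points.map (prod.map c (𝟙 ((yon _).obj (fld k k'))))) :=
    K625.Prod.isOpenMap_of_repWith
      (K625.Prod.repWith_of_isPullback @UniversallyOpen
        (K625.Prod.isPullback_map_left ((yon _).obj (fld k k')) c)
        (repWith_universallyOpen_of_etale hc))
  refine ⟨k', hk', Points.map (prod.map c (𝟙 _)) '' W', hop _ hW', ?_, ?_⟩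
  · refine ⟨_, h1, ?_⟩
    rw [← hy2, ← Points.map_comp, ← Points.map_comp]
    exact congrArg (fun f => Points.map f y) sq.w
  · rw [K625.Points.map_preimage_image sq W']
    rintro _ ⟨z, hz, rfl⟩
    exact h2 hz

/-- A subset of `|X_K|` is saturated for `|X_K| ⟶ |X_{k'}|`. -/
def Sat (X : Sp (Spec (CommRingCat.of k))) (k' : IntermediateField k K)
    (V : Set (Points (bcs X K))) : Prop :=
  ∀ x y, Points.map (bcMap X k'.val) x = Points.map (bcMap X k'.val) y → x ∈ V → y ∈ V

theorem Sat.mono {X : Sp (Spec (CommRingCat.of k))} {k₁ k₂ : IntermediateField k K}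
    {V : Set (Points (bcs X K))} (h : Sat X k₁ V) (hk : k₁ ≤ k₂) : Sat X k₂ V := by
  intro x y e
  refine h x y ?_
  have h2 : homOf k₂.val ≫ homOf (IntermediateField.inclusion hk) = homOf (k := k) k₁.val := by
    rw [K625.Tensor.homOf_comp]; rfl
  have : bcMap X k₂.val ≫ bcMap X (IntermediateField.inclusion hk) = bcMap X k₁.val := by
    rw [bcMap, bcMap, bcMap, prod.map_map, Category.comp_id, ← Functor.map_comp, h2]
  rw [← this, Points.map_comp, Points.map_comp, e]

theorem sat_preimage (X : Sp (Spec (CommRingCat.of k))) (k' : IntermediateField k K)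
    (W' : Set (Points (bcs X k'))) : Sat X k' (Points.map (bcMap X k'.val) ⁻¹' W') := by
  intro x y e hx
  rw [Set.mem_preimage, ← e]
  exact hx

/-- Compact open subsets of `|X_K|` come from a finite level. -/
theorem exists_sat (X : Space (Spec (CommRingCat.of k))) [Algebra.IsAlgebraic k K]
    (V : Set (Points (bcs X.obj K))) (hV : IsOpen V) (hVc : IsCompact V) :
    ∃ (k' : IntermediateField k K) (_ : FiniteDimensional k k'), Sat X.obj k' V := by
  choose! kk hk W hW hx hWV using fun (x : Points (bcs X.obj K)) (hx : x ∈ V) =>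
    exists_level X x V hV hx
  obtain ⟨s, hsV⟩ := hVc.elim_nhds_subcover'
    (fun x hx => Points.map (bcMap X.obj (kk x).val) ⁻¹' (W x))
    (fun x hx' => ((hW x hx').preimage (Points.continuous_map _)).mem_nhds (hx x hx'))
  have : ∀ x : ↥V, FiniteDimensional k (kk x) := fun x => hk x x.2
  refine ⟨⨆ x ∈ s, kk x, IntermediateField.finiteDimensional_iSup_of_finset, ?_⟩
  intro x y e hxV
  obtain ⟨v, hv, hxv⟩ := Set.mem_iUnion₂.1 (hsV hxV)
  exact hWV v v.2 (((sat_preimage X.obj (kk v) (W v)).mono (le_iSup₂_of_le v hv le_rfl)) x y e hxv)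

/-- A saturated subset is the preimage of its image. -/
theorem Sat.preimage_image {X : Sp (Spec (CommRingCat.of k))} {k' : IntermediateField k K}
    {V : Set (Points (bcs X K))} (h : Sat X k' V) :
    Points.map (bcMap X k'.val) ⁻¹' (Points.map (bcMap X k'.val) '' V) = V := by
  refine Set.Subset.antisymm ?_ (Set.subset_preimage_image _ _)
  rintro y ⟨x, hx, e⟩
  exact h x y e hx

end K625.Level
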