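import Groth.Agent.AlgSp.K616.Inv
import Groth.Agent.Etbase.EtaleStalk
import Groth.Agent.Pi1.H394.WEReduced
import Groth.Agent.VarietyA.GeomRedBC
import Groth.Agent.S1541
import Groth.Agent.AlgSp.K625.Level
import Groth.Agent.AlgSp.K649.RedChart
import Groth.Prelude.Def_FDesc

/-!
Geometric reducedness at a point is invariant under etale morphisms (helper625).
-/

set_option autoImplicit false
universe u
open CategoryTheory CategoryTheory.Limits AlgebraicGeometry Topology TopologicalSpace Opposite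
open scoped TensorProduct

namespace K625.GeomRed

theorem weaklyEtale_of_formallyUnramified (A B : Type u) [CommRing A] [CommRing B] [Algebra A B]
    [Module.Flat A B] [Algebra.FormallyUnramified A B] [Algebra.EssFiniteType A B] :
    Algebra.WeaklyEtale A B where
  flat_lmul' := by
    algebraize [Algebra.TensorProduct.lmul' A (S := B) |>.toRingHom]
    have : IsScalarTower B (B ⊗[A] B) B := IsScalarTower.of_algebraMap_eq fun x => by
      simp [RingHom.algebraMap_toAlgebra]
    exact Algebra.FormallyUnramified.flat_of_restrictScalars (R := B) (S := B ⊗[A] B) (M := B)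

/-- Reducedness of local rings is invariant under etale morphisms (no Noetherian hypothesis). -/
theorem isReduced_stalk_iff {X Y : Scheme.{u}} (f : X ⟶ Y) [Etale f] (x : X) :
    _root_.IsReduced (X.presheaf.stalk x) ↔ _root_.IsReduced (Y.presheaf.stalk (f x)) := by
  constructor
  · intro h
    exact Groth.Agent.VarietyA.GeomRedBC.isReduced_stalk_of_flat f x
  · intro h
    obtain ⟨h1, h2, h3, h4⟩ := Groth.Agent.Etbase.EtaleStalk.stalkMap_facts f x
    algebraize [(f.stalkMap x).hom]
    have := weaklyEtale_of_formallyUnramified (Y.presheaf.stalk (f x)) (X.presheaf.stalk x)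
    exact Groth.Agent.Pi1.H394.WEReduced.isReduced_of_weaklyEtale (Y.presheaf.stalk (f x))
      (X.presheaf.stalk x)

section bc

variable {k : Type u} [Field k]

/-- The base change of an etale `k`-morphism to `K`. -/
theorem exists_bcMap {U V : Scheme.{u}} (p : U ⟶ V) (f : V ⟶ Spec (CommRingCat.of k))
    (K : Type u) [Field K] [Algebra k K] :
    ∃ q : FBase.bc (p ≫ f) K ⟶ FBase.bc f K,
      IsPullback q (FBase.bcπ (p ≫ f) K) (FBase.bcπ f K) p ∧
      q ≫ FBase.bcStr f K = FBase.bcStr (p ≫ f) K := by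
  have h1 : IsPullback (FBase.bcπ f K) (FBase.bcStr f K) f
    (Spec.map (CommRingCat.ofHom (algebraMap k K))) := IsPullback.of_hasPullback _ _
  have h2 : IsPullback (FBase.bcπ (p ≫ f) K) (FBase.bcStr (p ≫ f) K) (p ≫ f)
    (Spec.map (CommRingCat.ofHom (algebraMap k K))) := IsPullback.of_hasPullback _ _
  refine ⟨h1.lift (FBase.bcπ (p ≫ f) K ≫ p) (FBase.bcStr (p ≫ f) K)
    (by rw [Category.assoc]; exact h2.w), ?_, h1.lift_snd _ _ _⟩
  refine IsPullback.of_right (h₁₂ := FBase.bcStr f K) (t := h1.flip) ?_ (h1.lift_fst _ _ _)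
  rw [h1.lift_snd]
  exact h2.flip

/-- Geometric reducedness at a point is invariant under etale morphisms. -/
theorem isGeomReducedAt_iff {U V : Scheme.{u}} (p : U ⟶ V) [Etale p]
    (f : V ⟶ Spec (CommRingCat.of k)) (u : ↥U) :
    FBase.IsGeomReducedAt (p ≫ f) u ↔ FBase.IsGeomReducedAt f (p u) := by
  constructor
  · intro h K _ _ x' hx'
    obtain ⟨q, sq, -⟩ := exists_bcMap p f K
    have : Etale q := MorphismProperty.of_isPullback sq.flip ‹Etale p›
    obtain ⟨u', h1, h2⟩ := Scheme.exists_preimage_of_isPullback sq x' u hx'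
    have := (isReduced_stalk_iff q u').1 (h K u' h2)
    rw [← h1]
    exact this
  · intro h K _ _ x' hx'
    obtain ⟨q, sq, -⟩ := exists_bcMap p f K
    have : Etale q := MorphismProperty.of_isPullback sq.flip ‹Etale p›
    refine (isReduced_stalk_iff q x').2 (h K (q x') ?_)
    rw [← hx']
    exact congrArg (fun g => g x') (congrArg (fun g : _ ⟶ V => g.base) sq.w)

/-- Comparison with the frozen notion used in the curves block. -/
theorem iff_curv2 {V : Scheme.{u}} (f : V ⟶ Spec (CommRingCat.of k)) (v : ↥V) :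
    FBase.IsGeomReducedAt f v ↔ @Curv2.IsGeomReducedAt k _ V ⟨f⟩ v := Iff.rfl

theorem isGeomReducedAt_over {U V : Over (Spec (CommRingCat.of k))} (p : U ⟶ V) (hp : Etale p.left)
    (u : ↥U.left) : FBase.IsGeomReducedAt U.hom u ↔ FBase.IsGeomReducedAt V.hom (p.left u) := by
  rw [← Over.w p]
  exact isGeomReducedAt_iff p.left V.hom u

open AlgSp

/-- Geometric reducedness does not depend on the chart. -/
theorem chart_iff {F : Sp (Spec (CommRingCat.of k))} {U₁ U₂ : Over (Spec (CommRingCat.of k))}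
    (a₁ : (yon _).obj U₁ ⟶ F) (a₂ : (yon _).obj U₂ ⟶ F) (ha₁ : RepWith @Etale a₁)
    (ha₂ : RepWith @Etale a₂) (u₁ : ↥U₁.left) (u₂ : ↥U₂.left)
    (h : Points.ofPt a₁ u₁ = Points.ofPt a₂ u₂) :
    FBase.IsGeomReducedAt U₁.hom u₁ ↔ FBase.IsGeomReducedAt U₂.hom u₂ := by
  obtain ⟨U, p₁, p₂, u, -, e₁, e₂, h1, h2⟩ :=
    K616.Inv.exists_chart_refinement a₁ a₂ ha₁ ha₂ u₁ u₂ h
  rw [← h1, ← h2, ← isGeomReducedAt_over p₁ e₁, ← isGeomReducedAt_over p₂ e₂]

/-- `X` is geometrically reduced at `x` (some chart). -/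
def GR (F : Sp (Spec (CommRingCat.of k))) (x : Points F) : Prop :=
  ∃ (U : Over (Spec (CommRingCat.of k))) (a : (yon _).obj U ⟶ F) (u : ↥U.left),
      RepWith @Etale a ∧ Points.ofPt a u = x ∧ FBase.IsGeomReducedAt U.hom u

theorem gr_iff {F : Sp (Spec (CommRingCat.of k))} {U : Over (Spec (CommRingCat.of k))}
    (a : (yon _).obj U ⟶ F) (ha : RepWith @Etale a) (u : ↥U.left) :
    GR F (Points.ofPt a u) ↔ FBase.IsGeomReducedAt U.hom u := by
  constructor
  · rintro ⟨V, b, v, hb, e, h⟩
    exact (chart_iff b a hb ha v u e).1 h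
  · intro h
    exact ⟨U, a, u, ha, rfl, h⟩

theorem gr_iff_forall {F : Sp (Spec (CommRingCat.of k))} (hF : IsAlgSpace F) (x : Points F) :
    GR F x ↔ ∀ (U : Over (Spec (CommRingCat.of k))) (a : (yon _).obj U ⟶ F) (u : ↥U.left),
        RepWith @Etale a → Points.ofPt a u = x → FBase.IsGeomReducedAt U.hom u := by
  constructor
  · intro h U a u ha e
    subst e
    exact (gr_iff a ha u).1 h
  · intro h
    obtain ⟨U, a, u, ha, e⟩ := K616.Inv.exists_chart hF x
    exact ⟨U, a, u, ha, e, h U a u ha e⟩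

end bc

end K625.GeomRed
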