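import Groth.Agent.AlgSp.K625.GeomRed2
import Groth.Agent.S1545

/-!
Geometric reducedness at a point and change of base field (helper625).
-/

set_option autoImplicit false
universe u
open CategoryTheory CategoryTheory.Limits AlgebraicGeometry Topology TopologicalSpace Opposite
open scoped TensorProduct
open AlgSp
open K625.Fld (fld bcs homOf bcMap)
open K625.GeomRed2 (prodIso prodIso_fst prodIso_snd)
open K649.RedChart (prodChart)

namespace K625.GeomRed3

variable {k : Type u} [Field k]

theorem prodChart_snd {S : Scheme.{u}} {X : Sp S} {U : Over S} (a : (yon S).obj U ⟶ X) (T : Over S) :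
    prodChart a T ≫ prod.snd = (yon S).map prod.snd := by
  rw [prodChart, Category.assoc, prod.map_snd, Category.comp_id, prodComparison_snd]

theorem prodChart_fst {S : Scheme.{u}} {X : Sp S} {U : Over S} (a : (yon S).obj U ⟶ X) (T : Over S) :
    prodChart a T ≫ prod.fst = (yon S).map prod.fst ≫ a := by
  rw [prodChart, Category.assoc, prod.map_fst, ← Category.assoc, prodComparison_fst]

theorem isPullback_prodChart {S : Scheme.{u}} {X : Sp S} {U : Over S} (a : (yon S).obj U ⟶ X)
    (T : Over S) : IsPullback ((yon S).map (prod.fst : U ⨯ T ⟶ U)) (prodChart a T) a prod.fst := by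
  have h1 := K649.RedChart.isPullback_prod_map a ((yon S).obj T)
  exact IsPullback.of_iso h1 (asIso (prodComparison (yon S) U T)).symm (Iso.refl _) (Iso.refl _)
    (Iso.refl _) (by simp) (by simp [prodChart]) (by simp) (by simp)

/-- A point of `X ⨯ h_T` over the image of a point of a chart lifts to the chart. -/
theorem exists_prodChart_point {S : Scheme.{u}} {X : Sp S} {U : Over S} (a : (yon S).obj U ⟶ X)
    (T : Over S) (u : ↥U.left) (x' : Points (X ⨯ (yon S).obj T))
    (h : Points.map prod.fst x' = Points.ofPt a u) :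
    ∃ w : ↥(U ⨯ T).left, Points.ofPt (prodChart a T) w = x' ∧
      (prod.fst : U ⨯ T ⟶ U).left w = u := by
  obtain ⟨p, h1, h2⟩ := K625.Points.exists_of_isPullback (isPullback_prodChart a T)
    (Points.ofScheme U u) x' (by rw [h]; exact (Points.ofPt_eq_map_ofScheme a u).symm)
  obtain ⟨w, rfl⟩ := K625.Points.points_yon_surj p
  refine ⟨w, ?_, ?_⟩
  · rw [Points.ofPt_eq_map_ofScheme, h2]
  · apply (Points.schemeEquiv U).injective
    change Points.ofScheme U _ = Points.ofScheme U _
    rw [← h1, Points.map_ofPt, Category.id_comp]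
    rw [← Category.comp_id ((yon S).map (prod.fst : U ⨯ T ⟶ U)), K625.Points.ofPt_yon_map_comp]

/-- Base change of geometric reducedness at a point, for `U ⨯ Spec K`. -/
theorem iff_prod (U : Over (Spec (CommRingCat.of k))) (K : Type u) [Field K] [Algebra k K]
    (w : ↥(U ⨯ fld k K).left) :
    FBase.IsGeomReducedAt U.hom ((prod.fst : U ⨯ fld k K ⟶ U).left w) ↔
      FBase.IsGeomReducedAt (prod.snd : U ⨯ fld k K ⟶ fld k K).left w := by
  rw [← prodIso_snd U K]
  have h1 := K625.GeomRed.isGeomReducedAt_iff (prodIso U K).hom (FBase.bcStr U.hom K) w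
  rw [h1]
  have h2 := @Groth.Agent.S1545.result k _ U.left ⟨U.hom⟩ K _ _
    ((prod.fst : U ⨯ fld k K ⟶ U).left w) ((prodIso U K).hom w) (by
      rw [← prodIso_fst U K]
      rfl)
  exact h2

end K625.GeomRed3
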