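import Groth.Agent.S10007
import Groth.Agent.AlgSp.K602.RingColim
import Groth.Agent.AlgSp.K604.LimSepY
import Groth.Agent.AlgSp.K596.QC2
import Groth.Agent.AlgSp.K625.Desc2
import Mathlib.RingTheory.Adjoin.FG
import Mathlib.RingTheory.Jacobson.Ring

/-!
`X_K` as the limit of the `X_A`, `A` finitely generated subalgebras of `K` (helper625).
-/

set_option autoImplicit false
universe u
open CategoryTheory CategoryTheory.Limits AlgebraicGeometry Topology TopologicalSpace Opposite
open AlgSp
open scoped TensorProduct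

namespace K625.Lim

open K625.Fld K625.Prod

theorem pmap_fst {C : Type*} [Category C] [HasBinaryProducts C] (X : C) {A B : C} (f : A ⟶ B) :
    (prod.functor.obj X).map f ≫ (prod.fst : X ⨯ B ⟶ X) = (prod.fst : X ⨯ A ⟶ X) :=
  (prod.map_fst (𝟙 X) f).trans (Category.comp_id _)

theorem pmap_snd {C : Type*} [Category C] [HasBinaryProducts C] (X : C) {A B : C} (f : A ⟶ B) :
    (prod.functor.obj X).map f ≫ (prod.snd : X ⨯ B ⟶ B) = (prod.snd : X ⨯ A ⟶ A) ≫ f :=
  prod.map_snd (𝟙 X) f

/-- The cone on the second factors. -/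
noncomputable def sndCone {C : Type*} [Category C] [HasBinaryProducts C] {J : Type*} [Category J]
    (X : C) {D : J ⥤ C} (s : Cone (D ⋙ prod.functor.obj X)) : Cone D where
  pt := s.pt
  π :=
    { app := fun j => s.π.app j ≫ (prod.snd : X ⨯ D.obj j ⟶ D.obj j)
      naturality := fun i j f => by
        change 𝟙 _ ≫ _ = (s.π.app i ≫ prod.snd) ≫ D.map f
        rw [Category.id_comp, ← s.w f, Category.assoc, Category.assoc]
        exact congrArg (_ ≫ ·) (pmap_snd X (D.map f)) }

theorem fst_const {C : Type*} [Category C] [HasBinaryProducts C] {J : Type*} [Category J]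
    [IsConnected J] (X : C) {D : J ⥤ C} (s : Cone (D ⋙ prod.functor.obj X)) (i j : J) :
      s.π.app i ≫ (prod.fst : X ⨯ D.obj i ⟶ X) = s.π.app j ≫ (prod.fst : X ⨯ D.obj j ⟶ X) := by
  have h : ∀ (i j : J) (f : i ⟶ j), s.π.app i ≫ (prod.fst : X ⨯ D.obj i ⟶ X) =
      s.π.app j ≫ (prod.fst : X ⨯ D.obj j ⟶ X) := by
    intro i j f
    rw [← s.w f, Category.assoc]
    exact congrArg (_ ≫ ·) (pmap_fst X (D.map f)).symm
  exact constant_of_preserves_morphisms (fun i => s.π.app i ≫ (prod.fst : X ⨯ D.obj i ⟶ X)) h i j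

/-- `X ⨯ -` preserves connected limits. -/
noncomputable def isLimitProd {C : Type*} [Category C] [HasBinaryProducts C] {J : Type*} [Category J]
    [IsConnected J] (X : C) {D : J ⥤ C} (c : Cone D) (hc : IsLimit c) :
    IsLimit ((prod.functor.obj X).mapCone c) where
  lift := fun s => prod.lift (s.π.app (Classical.arbitrary J) ≫ prod.fst) (hc.lift (sndCone X s))
  fac := fun s j => by
    apply Limits.prod.hom_ext
    · refine (Category.assoc _ _ _).trans ((congrArg (_ ≫ ·) (pmap_fst X (c.π.app j))).trans ?_)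
      exact (prod.lift_fst _ _).trans (fst_const X s _ j)
    · refine (Category.assoc _ _ _).trans ((congrArg (_ ≫ ·) (pmap_snd X (c.π.app j))).trans ?_)
      refine (Category.assoc _ _ _).symm.trans ((congrArg (· ≫ c.π.app j) (prod.lift_snd _ _)).trans ?_)
      exact hc.fac (sndCone X s) j
  uniq := fun s m hm => by
    apply Limits.prod.hom_ext
    · refine Eq.trans ?_ (prod.lift_fst _ _).symm
      rw [← hm (Classical.arbitrary J)]
      exact (congrArg (m ≫ ·) (pmap_fst X _).symm).trans (Category.assoc _ _ _).symm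
    · refine Eq.trans ?_ (prod.lift_snd _ _).symm
      refine hc.hom_ext fun j => ?_
      refine Eq.trans ?_ (hc.fac (sndCone X s) j).symm
      refine (Category.assoc _ _ _).trans ((congrArg (m ≫ ·) (pmap_snd X _).symm).trans ?_)
      refine (Category.assoc _ _ _).symm.trans ?_
      exact congrArg (· ≫ prod.snd) (hm j)

section

variable (k : Type u) [Field k] (K : Type u) [CommRing K] [Algebra k K]

/-- Finitely generated subalgebras. -/
abbrev Idx : Type u := {A : Subalgebra k K // A.FG}

instance : IsDirected (Idx k K) (· ≤ ·) :=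
  ⟨fun A B => ⟨⟨A.1 ⊔ B.1, A.2.sup B.2⟩, le_sup_left (a := A.1), le_sup_right (a := A.1)⟩⟩

instance : Nonempty (Idx k K) := ⟨⟨⊥, Subalgebra.fg_bot⟩⟩

noncomputable def F : Idx k K ⥤ CommRingCat.{u} where
  obj A := CommRingCat.of A.1
  map f := CommRingCat.ofHom (Subalgebra.inclusion (leOfHom f)).toRingHom
  map_id _ := rfl
  map_comp _ _ := rfl

noncomputable def cocone : Cocone (F k K) where
  pt := CommRingCat.of K
  ι :=
    { app := fun A => CommRingCat.ofHom A.1.val.toRingHom
      naturality := fun _ _ _ => rfl }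

/-- The diagram of the spectra of the finitely generated subalgebras over `k`. -/
noncomputable def diag : (Idx k K)ᵒᵖ ⥤ Over (Spec (CommRingCat.of k)) where
  obj A := fld k A.unop.1
  map f := homOf (Subalgebra.inclusion (leOfHom f.unop))
  map_id A := Over.OverMorphism.ext (show Spec.map ((F k K).map (𝟙 A.unop)) = 𝟙 (Spec _) by
    rw [(F k K).map_id]
    exact Spec.map_id _)
  map_comp f g := Over.OverMorphism.ext (show Spec.map ((F k K).map (g.unop ≫ f.unop)) =
      Spec.map ((F k K).map f.unop) ≫ Spec.map ((F k K).map g.unop) by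
    rw [(F k K).map_comp, Spec.map_comp])

noncomputable def cone : Cone (diag k K) where
  pt := fld k K
  π :=
    { app := fun A => homOf A.unop.1.val
      naturality := fun A B f => Over.OverMorphism.ext
        (show 𝟙 (Spec (CommRingCat.of K)) ≫ Spec.map ((cocone k K).ι.app B.unop) =
          Spec.map ((cocone k K).ι.app A.unop) ≫ Spec.map ((F k K).map f.unop) by
        rw [Category.id_comp, ← Spec.map_comp, (cocone k K).w f.unop]
        rfl) }

theorem fg_adjoin_singleton (x : K) : (Algebra.adjoin k {x} : Subalgebra k K).FG := ⟨{x}, by simp⟩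

theorem nonempty_isLimit_left : Nonempty (IsLimit ((Over.forget _).mapCone (cone k K))) := by
  obtain ⟨h⟩ := K602.RingColim.nonempty_isLimit_spec (F k K) (cocone k K) (fun x =>
    ⟨⟨Algebra.adjoin k {x}, fg_adjoin_singleton k K x⟩, ⟨x, Algebra.subset_adjoin rfl⟩, rfl⟩)
    (fun A y hy => ⟨A, 𝟙 _, Subtype.ext hy⟩)
  exact ⟨h⟩

theorem nonempty_isLimit : Nonempty (IsLimit (cone k K)) := by
  obtain ⟨h⟩ := nonempty_isLimit_left k K
  have : IsConnected (Idx k K)ᵒᵖ := IsCofiltered.isConnected _
  exact ⟨isLimitOfReflects (Over.forget _) h⟩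

end

variable {k : Type u} [Field k]

theorem isAlgSpace_bcs {X : Sp (Spec (CommRingCat.of k))} (hX : IsAlgSpace X) (A : Type u) [CommRing A]
    [Algebra k A] : IsAlgSpace (bcs X A) :=
  K594.Fib.isAlgSpace_of_isPullback (IsAlgSpace.yon_obj (Over.mk (𝟙 _))).diag hX (IsAlgSpace.yon_obj _)
    (isPullback_prod _ _)

theorem isQuasiSeparatedSp_bcs {X : Sp (Spec (CommRingCat.of k))} (h : IsQuasiSeparatedSp X)
    (A : Type u) [CommRing A] [Algebra k A] : IsQuasiSeparatedSp (bcs X A) :=
  K596.QC2.repWith_diag_of_isPullback h (K604.LimSepY.isQuasiSeparatedSp_yon (inferInstanceAs (IsAffine (Spec _))))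
    (isPullback_prod _ _)

theorem isQuasiCompactSp_bcs {X : Sp (Spec (CommRingCat.of k))} (hX : IsAlgSpace X) (h : IsQuasiCompactSp X)
    (A : Type u) [CommRing A] [Algebra k A] : IsQuasiCompactSp (bcs X A) := by
  have : CompactSpace ↥(fld k A).left := inferInstanceAs (CompactSpace ↥(Spec _))
  have h1 : IsQuasiCompactSp ((yon (Spec (CommRingCat.of k))).obj (fld k A)) :=
    K596.QC.isQuasiCompactSp_yon _
  have h2 : IsQuasiSeparatedSp ((yon (Spec (CommRingCat.of k))).obj (Over.mk (𝟙 _))) :=
    K604.LimSepY.isQuasiSeparatedSp_yon (inferInstanceAs (IsAffine (Spec _)))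
  exact K596.QC2.isQuasiCompactMor_of_qc_of_qs hX (IsAlgSpace.yon_obj _) _ h h2 (IsAlgSpace.yon_obj _) h1
    _ _ _ (isPullback_prod _ _)

/-- If `X_K` is a scheme then `X_A` is a scheme for a finitely generated subalgebra `A`. -/
theorem exists_fg_isRepresentable {X : Sp (Spec (CommRingCat.of k))} (hX : IsAlgSpace X)
    (hqc : IsQuasiCompactSp X) (hqs : IsQuasiSeparatedSp X) (K : Type u) [CommRing K] [Algebra k K]
    (h : (bcs X K).obj.IsRepresentable) :
    ∃ A : Subalgebra k K, A.FG ∧ (bcs X A).obj.IsRepresentable := by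
  obtain ⟨hl⟩ := nonempty_isLimit k K
  have : IsConnected (Idx k K)ᵒᵖ := IsCofiltered.isConnected _
  have h2 : IsLimit ((yon (Spec (CommRingCat.of k))).mapCone (cone k K)) := isLimitOfPreserves (yon _) hl
  have h3 := isLimitProd X _ h2
  obtain ⟨A, hA⟩ := Groth.Agent.S10007.result (Spec (CommRingCat.of k))
    ((diag k K ⋙ yon (Spec (CommRingCat.of k))) ⋙ prod.functor.obj X)
    (fun A => isAlgSpace_bcs hX A.unop.1) (fun A B f => by
      refine K597.Affine.isAffineMor_of_repWith ?_
      refine repWith_map_right (P := @IsAffineHom) X ((diag k K).map f) ?_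
      exact inferInstanceAs (IsAffineHom (Spec.map _)))
    (fun A => isQuasiCompactSp_bcs hX hqc A.unop.1) (fun A => isQuasiSeparatedSp_bcs hqs A.unop.1)
    _ h3 h
  exact ⟨A.unop.1, A.unop.2, hA⟩

end K625.Lim
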