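import Groth.Agent.AlgSp.K625.Tensor
import Groth.Agent.AlgSp.K594.Fib
import Groth.Agent.AlgSp.K596.MonoField
import Groth.Agent.AlgSp.K629.EtLocInst
import Mathlib.AlgebraicGeometry.Morphisms.QuasiFinite

/-!
Locally quasi-finite algebraic spaces over a field: monomorphisms (helper625).
-/

set_option autoImplicit false
universe u
open CategoryTheory CategoryTheory.Limits AlgebraicGeometry Topology TopologicalSpace Opposite
open AlgSp

namespace K625.Lqf

variable {S : Scheme.{u}}

/-- A chart of the source of a monomorphism is quasi-finite (in Mathlib's sense) over the target. -/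
theorem lqf_of_mono {X Y : Sp S} (hX : IsAlgSpace X) (hY : IsAlgSpace Y) (f : X ⟶ Y) [Mono f]
    {U : Over S} (a : (yon S).obj U ⟶ X) (ha : RepWith @Etale a) {T W : Over S}
    (c : (yon S).obj T ⟶ Y) (w₁ : W ⟶ U) (w₂ : W ⟶ T)
    (sq : IsPullback ((yon S).map w₁) ((yon S).map w₂) (a ≫ f) c) :
    LocallyQuasiFinite w₂.left := by
  refine LocallyQuasiFinite.of_fiberToSpecResidueField w₂.left fun t => ?_
  let κ : Over S := Over.mk (T.left.fromSpecResidueField t ≫ T.hom)
  let τ : κ ⟶ T := Over.homMk (T.left.fromSpecResidueField t) rfl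
  let F : Over S := Over.mk ((w₂.left).fiberι t ≫ W.hom)
  let φ : F ⟶ W := Over.homMk ((w₂.left).fiberι t) rfl
  let ψ : F ⟶ κ := Over.homMk ((w₂.left).fiberToSpecResidueField t) (by
    change _ ≫ T.left.fromSpecResidueField t ≫ T.hom = w₂.left.fiberι t ≫ W.hom
    have e : w₂.left.fiberι t ≫ w₂.left =
      w₂.left.fiberToSpecResidueField t ≫ T.left.fromSpecResidueField t := pullback.condition
    rw [← Category.assoc, ← e, Category.assoc]
    exact congrArg (_ ≫ ·) (Over.w w₂))
  have sq1 : IsPullback φ ψ w₂ τ := K625.Tensor.isPullback_over (by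
    exact IsPullback.of_hasPullback _ _)
  have sq2 := ((sq1.map (yon S)).flip.paste_vert sq.flip).flip
  have sq3 := IsPullback.of_hasPullback f ((yon S).map τ ≫ c)
  have hP := K594.Fib.isAlgSpace_of_isPullback hY.diag hX (IsAlgSpace.yon_obj κ) sq3
  let l : (yon S).obj F ⟶ pullback f ((yon S).map τ ≫ c) :=
    sq3.lift (((yon S).map φ ≫ (yon S).map w₁) ≫ a) ((yon S).map ψ) (by
      rw [Category.assoc]; exact sq2.w)
  have hl1 : l ≫ pullback.fst _ _ = ((yon S).map φ ≫ (yon S).map w₁) ≫ a := sq3.lift_fst _ _ _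
  have hl2 : l ≫ pullback.snd _ _ = (yon S).map ψ := sq3.lift_snd _ _ _
  have sq4 : IsPullback ((yon S).map φ ≫ (yon S).map w₁) l a (pullback.fst f ((yon S).map τ ≫ c)) := by
    refine IsPullback.of_bot (v₂₁ := pullback.snd f ((yon S).map τ ≫ c)) (v₂₂ := f)
      (h₃₁ := (yon S).map τ ≫ c) ?_ hl1.symm sq3
    rw [hl2]
    exact sq2
  have hl : RepWith @Etale l := MorphismProperty.of_isPullback sq4 ha
  have hψ : Etale ψ.left ∨ IsEmpty ↥F.left := by
    by_cases hne : Nonempty ↥F.left
    · left
      have hn : Nonempty (Points (pullback f ((yon S).map τ ≫ c))) := by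
        obtain ⟨x⟩ := hne
        exact ⟨Points.ofPt l x⟩
      have : IsIso (pullback.snd f ((yon S).map τ ≫ c)) :=
        K596.MonoField.isIso_of_mono_to_field hP (k := T.left.residueField t)
          (str := κ.hom) (pullback.snd f ((yon S).map τ ≫ c)) hn
      have h2 : RepWith @Etale ((yon S).map ψ) := by
        rw [← hl2]
        exact (MorphismProperty.cancel_right_of_respectsIso _ _ _).2 hl
      exact (repWith_yon_map_iff _ _).1 h2
    · exact Or.inr (not_nonempty_iff.1 hne)
  rcases hψ with h | h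
  · exact K629.EtLocInst.locallyQuasiFinite_of_etale ψ.left h
  · have : IsEmpty ↥((w₂.left).fiber t) := h
    infer_instance

end K625.Lqf
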