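import Groth.Agent.AlgSp.K625.Lqf
import Groth.Agent.AlgSp.K597.LocP
import Groth.Agent.AlgSp.K597.EtLoc

/-!
Locally quasi-finite algebraic spaces over a field (helper625).
-/

set_option autoImplicit false
universe u
open CategoryTheory CategoryTheory.Limits AlgebraicGeometry Topology TopologicalSpace Opposite
open AlgSp

namespace K625.LqfField

section Base

variable {S : Scheme.{u}} {P : MorphismProperty Scheme.{u}} {X : Sp S}

theorem base_comm (p : X ⟶ (yon S).obj (Over.mk (𝟙 S))) {U : Over S} (a : (yon S).obj U ⟶ X) :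
    a ≫ p = (yon S).map (Over.homMk U.hom (by simp) : U ⟶ Over.mk (𝟙 S)) ≫ 𝟙 _ := by
  obtain ⟨q, hq⟩ := (yon S).map_surjective (a ≫ p)
  rw [Category.comp_id, ← hq]
  congr 1
  ext
  have := Over.w q
  simpa using this

/-- Every etale chart of a space with `P` over the base has `P` over the base. -/
theorem of_locP_base (p : X ⟶ (yon S).obj (Over.mk (𝟙 S))) (h : LocP P p) {U : Over S}
    (a : (yon S).obj U ⟶ X) (ha : RepWith @Etale a) : P U.hom :=
  h a (𝟙 _) _ ha (repWith_id _ _) (base_comm p a)

theorem locP_base_of_chart (hP : K597.EtLoc P) (p : X ⟶ (yon S).obj (Over.mk (𝟙 S))) {U : Over S}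
    (a : (yon S).obj U ⟶ X) (ha : RepWith @Etale a) (has : RepWith @Surjective a) (h : P U.hom) :
    LocP P p :=
  K597.locP_of_chart hP p a (𝟙 _) _ ha has (repWith_id _ _) (base_comm p a) h

end Base

variable {k : Type u} [Field k]

theorem isLocallyArtinian_field : IsLocallyArtinian (Spec (CommRingCat.of k)) := inferInstance

/-- Over a field, quasi-finiteness in Mathlib's sense implies finite type. -/
theorem lft_of_lqf {X : Scheme.{u}} (f : X ⟶ Spec (CommRingCat.of k)) [LocallyQuasiFinite f] :
    LocallyOfFiniteType f := by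
  rw [IsZariskiLocalAtSource.iff_of_openCover (P := @LocallyOfFiniteType) X.affineCover]
  intro i
  have : IsFinite (X.affineCover.f i ≫ f) := IsFinite.of_locallyQuasiFinite _
  infer_instance

theorem locP_of_mono {X Y : Sp (Spec (CommRingCat.of k))} (hX : IsAlgSpace X) (hY : IsAlgSpace Y)
    (f : X ⟶ Y) [Mono f] (q : Y ⟶ (yon _).obj (Over.mk (𝟙 _)))
    (hq : LocP (@LocallyQuasiFinite ⊓ @LocallyOfFiniteType : MorphismProperty Scheme.{u}) q) :
    LocP (@LocallyQuasiFinite ⊓ @LocallyOfFiniteType : MorphismProperty Scheme.{u}) (f ≫ q) := by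
  obtain ⟨U, a, ha, has⟩ := hX.atlas
  obtain ⟨T, c, hc, hcs⟩ := hY.atlas
  refine locP_base_of_chart K597.etLoc_lqf (f ≫ q) a ha has ?_
  have hT := of_locP_base q hq c hc
  obtain ⟨W, w₁, w₂, sq⟩ := K594.Fib.exists_isPullback_yon hY.diag (a ≫ f) c
  have h1 : Etale w₁.left := (repWith_yon_map_iff _ _).1 (MorphismProperty.of_isPullback sq.flip hc)
  have h2 : Surjective w₁.left := (repWith_yon_map_iff _ _).1 (MorphismProperty.of_isPullback sq.flip hcs)
  have h3 : LocallyQuasiFinite w₂.left := K625.Lqf.lqf_of_mono hX hY f a ha c w₁ w₂ sq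
  have := hT.1
  have h4 : LocallyQuasiFinite (w₁.left ≫ U.hom) := by
    rw [Over.w w₁, ← Over.w w₂]
    infer_instance
  exact K629.SchDesc.lqf w₁.left U.hom h1 h2 ⟨h4, lft_of_lqf _⟩

theorem locP_lqf_iff_dim {X : Sp (Spec (CommRingCat.of k))} (hX : IsAlgSpace X)
    (p : X ⟶ (yon _).obj (Over.mk (𝟙 _))) :
    LocP (@LocallyQuasiFinite ⊓ @LocallyOfFiniteType : MorphismProperty Scheme.{u}) p ↔
      LocP @LocallyOfFiniteType p ∧ dim X ≤ 0 := by
  constructor
  · intro h
    refine ⟨K597.locP_mono inf_le_right h, ?_⟩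
    refine iSup_le fun U => iSup_le fun a => iSup_le fun ha => ?_
    have h1 := (of_locP_base p h a ha).1
    have : IsLocallyArtinian U.left := IsLocallyArtinian.of_locallyQuasiFinite U.hom
    exact topologicalKrullDim_zero_of_discreteTopology _
  · rintro ⟨h, hd⟩
    obtain ⟨U, a, ha, has⟩ := hX.atlas
    refine locP_base_of_chart K597.etLoc_lqf p a ha has ?_
    have h1 := of_locP_base p h a ha
    have h2 : topologicalKrullDim ↥U.left ≤ 0 := by
      refine le_trans ?_ hd
      refine le_iSup_of_le U (le_iSup_of_le a ?_)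
      exact le_iSup (fun _ : RepWith @Etale a => topologicalKrullDim ↥U.left) ha
    have h3 : IsLocallyNoetherian U.left := LocallyOfFiniteType.isLocallyNoetherian U.hom
    have h4 : IsLocallyArtinian U.left := .of_topologicalKrullDim_le_zero h2
    refine ⟨?_, h1⟩
    rw [locallyQuasiFinite_iff_isDiscrete_preimage_singleton]
    intro x
    exact (isDiscrete_univ_iff.mpr inferInstance).mono (Set.subset_univ _)

end K625.LqfField
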