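import Groth.Agent.AlgSp.K625.LqfField
import Groth.Agent.AlgSp.K610.FinQuot
import Groth.Agent.AlgSp.K610.SchLocus
import Groth.Agent.AlgSp.K618.ClosedPt
import Groth.Agent.AlgSp.K609.Sep

/-!
Locally quasi-finite algebraic spaces over a field are schemes (helper625).
-/

set_option autoImplicit false
universe u
open CategoryTheory CategoryTheory.Limits AlgebraicGeometry Topology TopologicalSpace Opposite
open AlgSp

namespace K625.LqfSch

open K625.LqfField

variable {k : Type u} [Field k]

/-- An injective locally quasi-finite monomorphism to a locally Artinian scheme is a closed immersion. -/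
theorem isClosedImmersion_of_mono {R T : Scheme.{u}} (j : R ⟶ T) [Mono j] [LocallyQuasiFinite j]
    [IsLocallyArtinian T] (hinj : Function.Injective j) : IsClosedImmersion j := by
  have hR : IsLocallyArtinian R := .of_locallyQuasiFinite j
  have hqc : QuasiCompact j := by
    refine ⟨fun V _ hV => ?_⟩
    have h1 : (V : Set T).Finite := hV.finite (isDiscrete_univ_iff.mpr inferInstance |>.mono (Set.subset_univ _))
    exact (h1.preimage hinj.injOn).isCompact
  have : IsFinite j := .of_locallyQuasiFinite j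
  exact (IsClosedImmersion.iff_isFinite_and_mono j).2 ⟨inferInstance, inferInstance⟩

theorem isAffineOpen_singleton {X : Scheme.{u}} [DiscreteTopology X] (x : X) :
    IsAffineOpen (⟨{x}, isOpen_discrete _⟩ : X.Opens) := by
  obtain ⟨W, hW, hx, hWV⟩ := exists_isAffineOpen_mem_and_subset (X := X) (x := x)
    (U := ⟨{x}, isOpen_discrete _⟩) rfl
  have : W = ⟨{x}, isOpen_discrete _⟩ := by
    apply Opens.ext
    refine Set.Subset.antisymm hWV ?_
    rintro y (rfl : y = x)
    exact hx
  rwa [← this]

theorem isLocalRing_of_singleton {X : Scheme.{u}} (x : X) (V : X.Opens) (hV : IsAffineOpen V)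
    (hx : x ∈ V) (h : ∀ y ∈ V, y = x) : IsLocalRing Γ(X, V) := by
  have hs : Subsingleton V := ⟨fun a b => Subtype.ext ((h _ a.2).trans (h _ b.2).symm)⟩
  have hn : Nonempty V := ⟨⟨x, hx⟩⟩
  let e : V ≃ₜ PrimeSpectrum Γ(X, V) := hV.isoSpec.schemeIsoToHomeo
  have hs' : Subsingleton (PrimeSpectrum Γ(X, V)) := e.symm.injective.subsingleton
  have hn' : Nonempty (PrimeSpectrum Γ(X, V)) := hn.map e
  obtain ⟨p⟩ := hn'
  have : Nontrivial Γ(X, V) := PrimeSpectrum.nonempty_iff_nontrivial.1 ⟨p⟩
  refine IsLocalRing.of_unique_max_ideal ?_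
  obtain ⟨m, hm⟩ := Ideal.exists_maximal Γ(X, V)
  refine ⟨m, hm, fun m' hm' => ?_⟩
  have := Subsingleton.elim (⟨m', hm'.isPrime⟩ : PrimeSpectrum Γ(X, V)) ⟨m, hm.isPrime⟩
  exact congrArg PrimeSpectrum.asIdeal this

/-- Locally quasi-finite schemes over a field. -/
theorem exists_nhd {U : Scheme.{u}} (f : U ⟶ Spec (CommRingCat.of k)) [LocallyQuasiFinite f] (x : U) :
    ∃ V : U.Opens, x ∈ V ∧ IsAffineOpen V ∧ IsArtinianRing ↥Γ(U, V) ∧ IsLocalRing ↥Γ(U, V) ∧
      IsFinite (V.ι ≫ f) := by
  have h : IsLocallyArtinian U := .of_locallyQuasiFinite f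
  let V : U.Opens := ⟨{x}, isOpen_discrete _⟩
  have hV : IsAffineOpen V := isAffineOpen_singleton x
  refine ⟨V, rfl, hV, IsLocallyArtinian.isArtinianRing_presheaf_obj ⟨V, hV⟩,
    isLocalRing_of_singleton x V hV rfl (fun y hy => hy), ?_⟩
  have : IsAffine (V : Scheme.{u}) := hV
  exact IsFinite.of_locallyQuasiFinite _

theorem isSch (X : Space (Spec (CommRingCat.of k))) (p : X.obj ⟶ (yon _).obj (Over.mk (𝟙 _)))
    (hp : LocP (@LocallyQuasiFinite ⊓ @LocallyOfFiniteType : MorphismProperty Scheme.{u}) p)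
    (x : Points X.obj) : ∃ W, K610.SchLocus.IsSch X.obj W ∧ x ∈ W := by
  obtain ⟨U, a, ha, has⟩ := X.property.atlas
  obtain ⟨u, rfl⟩ := K610.Base.surjective_ofPt has x
  obtain ⟨V, hV, hu, -⟩ := exists_isAffineOpen_mem_and_subset (X := U.left) (x := u) (U := ⊤) trivial
  let W : Over (Spec (CommRingCat.of k)) := Over.mk (V.ι ≫ U.hom)
  let i : W ⟶ U := Over.homMk V.ι rfl
  have hb : RepWith @Etale ((yon _).map i ≫ a) :=
    MorphismProperty.comp_mem _ _ _ ((repWith_yon_map_iff _ _).2 (inferInstance : Etale V.ι)) ha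
  have hWa : IsAffine W.left := hV
  have hWq := of_locP_base p hp _ hb
  have hWq1 : LocallyQuasiFinite W.hom := hWq.1
  have hWf : IsFinite W.hom := IsFinite.of_locallyQuasiFinite _
  have ho : IsOpen (Set.range (Points.ofPt ((yon _).map i ≫ a))) :=
    (K610.Base.isOpenMap_ofPt_etale hb).isOpen_range
  obtain ⟨X', j, hj, hr⟩ := K610.Sub.exists_open_subspace X _ ho
  obtain ⟨b, hbj, hbe, hbs⟩ := K610.OpenImm.exists_corestrict X.property hj hr @Etale hb
  refine ⟨_, (K610.SchLocus.isSch_iff hj).2 ?_, ?_⟩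
  · obtain ⟨R, s', t', sq⟩ := X'.property.representable_from_yon b b
    obtain ⟨t, rfl⟩ := (yon _).map_surjective t'
    have hs : Etale s'.left := hbe.2 _ _ _ sq
    have hm := K609.Sep.mono_lift_left sq
    have hRq : LocallyQuasiFinite R.hom := by
      rw [← Over.w s']
      have := K629.EtLocInst.locallyQuasiFinite_of_etale _ hs
      infer_instance
    let l : R.left ⟶ pullback W.hom W.hom :=
      pullback.lift t.left s'.left ((Over.w t).trans (Over.w s').symm)
    have hlq : LocallyQuasiFinite l := by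
      have : LocallyQuasiFinite (l ≫ pullback.fst _ _ ≫ W.hom) := by
        rw [pullback.lift_fst_assoc, Over.w]
        exact hRq
      exact LocallyQuasiFinite.of_comp l (pullback.fst _ _ ≫ W.hom)
    have hart : IsLocallyArtinian (pullback W.hom W.hom) :=
      .of_locallyQuasiFinite (pullback.fst _ _ ≫ W.hom)
    have hinj : Function.Injective l := by
      have : UniversallyInjective l := inferInstance
      exact l.injective
    have hcl : IsClosedImmersion l := isClosedImmersion_of_mono l hinj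
    have hsf : IsFinite s'.left := by
      have e : s'.left = l ≫ pullback.snd _ _ := (pullback.lift_snd _ _ _).symm
      rw [e]
      infer_instance
    have hfin : RepWith @IsFinite b := by
      have := K618.ClosedPt.descendsAlong_isFinite_fppf
      exact (K613.Cover.FSurj.repWith (K613.Cover.ESurj.of_repWith hbe hbs).fSurj sq
        hbe.1 ((repWith_yon_map_iff _ _).2 hsf))
    obtain ⟨M, m, e, -⟩ := K610.FinQuot.exists_iso hfin
      (K610.Base.repWith_mono (fun _ _ f (_ : Etale f) => (inferInstance : Flat f)) hbe)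
      (K610.Base.repWith_mono
        (fun _ _ f (_ : Etale f) => (inferInstance : LocallyOfFinitePresentation f)) hbe) hbs
      (fun _ => ⟨⊤, isAffineOpen_top _, fun _ _ => trivial⟩)
    exact K610.ZarGlue.isRepresentable_iff.2 ⟨M, ⟨e⟩⟩
  · rw [hr]
    exact ⟨⟨u, hu⟩, by rw [K610.Base.ofPt_map_comp]; rfl⟩

theorem locP_lqf_iff (X : Space (Spec (CommRingCat.of k))) (p : X.obj ⟶ (yon _).obj (Over.mk (𝟙 _))) :
    LocP (@LocallyQuasiFinite ⊓ @LocallyOfFiniteType : MorphismProperty Scheme.{u}) p ↔
      ∃ (U : Over (Spec (CommRingCat.of k))) (_ : (yon (Spec (CommRingCat.of k))).obj U ≅ X.obj),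
        ∀ u : ↥U.left, ∃ V : U.left.Opens,
        u ∈ V ∧ IsAffineOpen V ∧ IsArtinianRing ↥Γ(U.left, V) ∧ IsLocalRing ↥Γ(U.left, V) ∧
          IsFinite (V.ι ≫ U.hom) := by
  constructor
  · intro hp
    obtain ⟨U, ⟨e⟩⟩ := K610.ZarGlue.isRepresentable_iff.1
      (K610.SchLocus.isRepresentable_iff_forall.2 (isSch X p hp))
    have he : RepWith @Etale e.hom := MorphismProperty.of_isIso (P := RepWith @Etale) e.hom
    have h1 := of_locP_base p hp _ he
    have := h1.1
    exact ⟨U, e, fun u => exists_nhd U.hom u⟩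
  · rintro ⟨U, e, h⟩
    have he : RepWith @Etale e.hom := MorphismProperty.of_isIso (P := RepWith @Etale) e.hom
    have hes : RepWith @Surjective e.hom := MorphismProperty.of_isIso (P := RepWith @Surjective) e.hom
    refine locP_base_of_chart K597.etLoc_lqf p _ he hes ?_
    choose V hV _ _ _ hf using h
    have hs : ⨆ u, V u = ⊤ := top_le_iff.1 fun u _ => Opens.mem_iSup.2 ⟨u, hV u⟩
    constructor
    · rw [IsZariskiLocalAtSource.iff_of_iSup_eq_top (P := @LocallyQuasiFinite) _ hs]
      intro u
      have := hf u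
      infer_instance
    · rw [IsZariskiLocalAtSource.iff_of_iSup_eq_top (P := @LocallyOfFiniteType) _ hs]
      intro u
      have := hf u
      infer_instance

end K625.LqfSch
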