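import Groth.Prelude.Def_AlgSp4

/-!
Minimal points kit (helper625): points of pullbacks, and the map on points of a
morphism whose base changes to schemes are open / closed / surjective.
Everything is for arbitrary sheaves.
-/

set_option autoImplicit false
universe u
open CategoryTheory CategoryTheory.Limits AlgebraicGeometry Topology TopologicalSpace Opposite
open AlgSp

namespace K625.Points

variable {S : Scheme.{u}}

/-- Sections of a pullback of sheaves. -/
theorem exists_section {P X Z Y : Sp S} {fst : P ⟶ X} {snd : P ⟶ Z} {f : X ⟶ Y} {g : Z ⟶ Y}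
    (h : IsPullback fst snd f g) {T : Over S} (x : X.obj.obj (op T)) (z : Z.obj.obj (op T))
    (e : f.hom.app (op T) x = g.hom.app (op T) z) :
    ∃ p : P.obj.obj (op T), fst.hom.app (op T) p = x ∧ snd.hom.app (op T) p = z := by
  have h1 := (h.map (sheafToPresheaf _ _)).map ((evaluation _ _).obj (op T))
  obtain ⟨p, hp⟩ := (Types.exists_of_isPullback h1 x z e)
  exact ⟨p, hp⟩

/-- Restricting a field-valued point does not change the point it defines. -/
theorem mk_restrict {F : Sp S} (p : FieldPt F) {Ω : Type u} [Field Ω]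
    {w : Spec (.of Ω) ⟶ S} (a : Over.mk w ⟶ p.pt) :
    Points.mk (⟨Ω, w, F.obj.map a.op p.val⟩ : FieldPt F) = Points.mk p :=
  Points.sound ⟨Ω, inferInstance, w, 𝟙 _, a, by simp⟩

/-- Points of a fibre product of sheaves map onto the fibre product of the sets of points. -/
theorem exists_of_isPullback {P X Z Y : Sp S} {fst : P ⟶ X} {snd : P ⟶ Z} {f : X ⟶ Y} {g : Z ⟶ Y}
    (h : IsPullback fst snd f g) (x : Points X) (z : Points Z)
    (e : Points.map f x = Points.map g z) :
    ∃ p : Points P, Points.map fst p = x ∧ Points.map snd p = z := by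
  induction x using Points.ind with
  | h x =>
    induction z using Points.ind with
    | h z =>
      rw [Points.map_mk, Points.map_mk, Points.mk_eq_mk_iff] at e
      obtain ⟨Ω, _, w, a', b', e⟩ := e
      obtain ⟨a, ha⟩ : ∃ a : Over.mk w ⟶ x.pt, a = a' := ⟨a', rfl⟩
      obtain ⟨b, hb⟩ : ∃ b : Over.mk w ⟶ z.pt, b = b' := ⟨b', rfl⟩
      have e' : f.hom.app _ (X.obj.map a.op x.val) = g.hom.app _ (Z.obj.map b.op z.val) := by
        rw [NatTrans.naturality_apply, NatTrans.naturality_apply]
        subst ha hb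
        exact e
      obtain ⟨p, h1, h2⟩ := exists_section h _ _ e'
      refine ⟨Points.mk ⟨Ω, w, p⟩, ?_, ?_⟩
      · rw [Points.map_mk, ← mk_restrict x a]
        exact congrArg (fun t => Points.mk (⟨Ω, w, t⟩ : FieldPt X)) h1
      · rw [Points.map_mk, ← mk_restrict z b]
        exact congrArg (fun t => Points.mk (⟨Ω, w, t⟩ : FieldPt Z)) h2

theorem map_preimage_image {P X Z Y : Sp S} {fst : P ⟶ X} {snd : P ⟶ Z} {f : X ⟶ Y} {g : Z ⟶ Y}
    (h : IsPullback fst snd f g) (W : Set (Points X)) :
    Points.map g ⁻¹' (Points.map f '' W) = Points.map snd '' (Points.map fst ⁻¹' W) := by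
  ext z
  constructor
  · rintro ⟨x, hx, e⟩
    obtain ⟨p, hp1, hp2⟩ := exists_of_isPullback h x z e
    exact ⟨p, by rw [Set.mem_preimage, hp1]; exact hx, hp2⟩
  · rintro ⟨p, hp, rfl⟩
    refine ⟨Points.map fst p, hp, ?_⟩
    rw [← Points.map_comp, ← Points.map_comp, h.w]

/-- The point of `F` defined by a point of a scheme through a map of schemes. -/
theorem ofPt_yon_map_comp {F : Sp S} {T T' : Over S} (φ : T ⟶ T') (g : (yon S).obj T' ⟶ F)
    (t : ↥T.left) : Points.ofPt ((yon S).map φ ≫ g) t = Points.ofPt g (φ.left t) := by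
  rw [← Points.map_ofPt, Points.ofPt_eq_map_ofScheme g]
  congr 1
  rw [← Points.ofScheme_toScheme T' (Points.ofPt ((yon S).map φ) t), Points.toScheme_ofPt]

theorem ofPt_eq_of_eq {F : Sp S} {T : Over S} {g g' : (yon S).obj T ⟶ F} (h : g = g')
    (t : ↥T.left) : Points.ofPt g t = Points.ofPt g' t := by rw [h]

theorem ofPt_square {F G : Sp S} {f : F ⟶ G} {U V : Over S} {g : (yon S).obj U ⟶ G}
    {a : (yon S).obj V ⟶ F} {b : V ⟶ U} (h : a ≫ f = (yon S).map b ≫ g) (v : ↥V.left) :
    Points.map f (Points.ofPt a v) = Points.ofPt g (b.left v) := by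
  rw [Points.map_ofPt, h, ofPt_yon_map_comp]

/-- The morphism `h_{Spec K} ⟶ F` of a field-valued point. -/
noncomputable def toHom {F : Sp S} (p : FieldPt F) : (yon S).obj p.pt ⟶ F :=
  (J S).uliftYonedaEquiv.symm p.val

theorem map_toHom_val {F : Sp S} (p : FieldPt F) {K : Type u} [Field K]
    {w : Spec (.of K) ⟶ S} (a : Over.mk w ⟶ p.pt) :
    Points.map (toHom p) (Points.mk ⟨K, w, ⟨a⟩⟩) = Points.mk p := by
  rw [Points.map_mk, ← mk_restrict p a]
  congr 2

theorem ofPt_toHom {F : Sp S} (p : FieldPt F) (t : ↥p.pt.left) :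
    Points.ofPt (toHom p) t = Points.mk p := by
  have := Points.ofScheme_apply_eq_mk p.pt (K := p.K) (str := p.str)
    (𝟙 (Spec (CommRingCat.of p.K))) (Category.id_comp _)
  have h2 : ((𝟙 (Spec (CommRingCat.of p.K)) : _ ⟶ _) (IsLocalRing.closedPoint p.K)) = t :=
    @Subsingleton.elim (PrimeSpectrum p.K) _ _ _
  rw [h2] at this
  rw [Points.ofPt_eq_map_ofScheme, this]
  exact map_toHom_val p _

theorem points_yon_surj {T : Over S} (x : Points ((yon S).obj T)) :
    ∃ t : ↥T.left, Points.ofScheme T t = x := ⟨_, Points.ofScheme_toScheme T x⟩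

/-- Image in a chart of the target of a subset of the points of the source. -/
theorem ofPt_preimage_image {F G : Sp S} {f : F ⟶ G} {U V : Over S} {g : (yon S).obj U ⟶ G}
    {a : (yon S).obj V ⟶ F} {b : V ⟶ U} (h : IsPullback a ((yon S).map b) f g)
    (W : Set (Points F)) :
    Points.ofPt g ⁻¹' (Points.map f '' W) = b.left '' (Points.ofPt a ⁻¹' W) := by
  ext t
  constructor
  · rintro ⟨x, hx, e⟩
    rw [Points.ofPt_eq_map_ofScheme] at e
    obtain ⟨p, hp1, hp2⟩ := exists_of_isPullback h x _ e
    obtain ⟨v, rfl⟩ := points_yon_surj p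
    refine ⟨v, ?_, ?_⟩
    · rw [Set.mem_preimage, Points.ofPt_eq_map_ofScheme, hp1]; exact hx
    · apply (Points.schemeEquiv U).injective
      change Points.ofScheme U _ = Points.ofScheme U _
      rw [← hp2, Points.map_ofPt, Category.id_comp]
      rw [← Category.comp_id ((yon S).map b), ofPt_yon_map_comp]
  · rintro ⟨v, hv, rfl⟩
    exact ⟨Points.ofPt a v, hv, ofPt_square h.w v⟩

/-- `Points.map f` is open if `f` is representable with open base changes. -/
theorem isOpenMap_map {F G : Sp S} {f : F ⟶ G} (hf : Representable f)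
    (H : ∀ ⦃U V : Over S⦄ (g : (yon S).obj U ⟶ G) (fst : (yon S).obj V ⟶ F) (snd : V ⟶ U),
        IsPullback fst ((yon S).map snd) f g → IsOpenMap snd.left) : IsOpenMap (Points.map f) := by
  intro W hW
  refine Points.isOpen_iff.2 fun U g => ?_
  obtain ⟨V, b, a, h⟩ := hf g
  rw [ofPt_preimage_image h]
  exact H g a b h _ (hW.preimage (Points.continuous_ofPt a))

theorem isClosed_iff {F : Sp S} {W : Set (Points F)} :
    IsClosed W ↔ ∀ (T : Over S) (g : (yon S).obj T ⟶ F), IsClosed (Points.ofPt g ⁻¹' W) := by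
  rw [← isOpen_compl_iff, Points.isOpen_iff]
  simp only [Set.preimage_compl, isOpen_compl_iff]

/-- `Points.map f` is closed if `f` is representable with closed base changes. -/
theorem isClosedMap_map {F G : Sp S} {f : F ⟶ G} (hf : Representable f)
    (H : ∀ ⦃U V : Over S⦄ (g : (yon S).obj U ⟶ G) (fst : (yon S).obj V ⟶ F) (snd : V ⟶ U),
        IsPullback fst ((yon S).map snd) f g → IsClosedMap snd.left) :
    IsClosedMap (Points.map f) := by
  intro W hW
  refine isClosed_iff.2 fun U g => ?_
  obtain ⟨V, b, a, h⟩ := hf g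
  rw [ofPt_preimage_image h]
  exact H g a b h _ (hW.preimage (Points.continuous_ofPt a))

/-- Every point is hit if the base change to every field-valued point is nonempty. -/
theorem map_surjective {F G : Sp S} {f : F ⟶ G} (hf : Representable f)
    (H : ∀ (q : FieldPt G) (V : Over S) (fst : (yon S).obj V ⟶ F) (snd : V ⟶ q.pt),
        IsPullback fst ((yon S).map snd) f (toHom q) → Nonempty ↥V.left) :
    Function.Surjective (Points.map f) := by
  intro y
  induction y using Points.ind with
  | h q =>
    obtain ⟨V, b, a, h⟩ := hf (toHom q)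
    obtain ⟨v⟩ := H q V a b h
    exact ⟨Points.ofPt a v, by rw [ofPt_square h.w, ofPt_toHom]⟩

/-- Fibres of `Points.map f` are images of fibre products with field-valued points. -/
theorem preimage_singleton_mk {P F G : Sp S} {f : F ⟶ G} (q : FieldPt G)
    {fst : P ⟶ F} {snd : P ⟶ (yon S).obj q.pt} (h : IsPullback fst snd f (toHom q)) :
    Points.map f ⁻¹' {Points.mk q} = Set.range (Points.map fst) := by
  have hs : ∀ z : Points ((yon S).obj q.pt), Points.map (toHom q) z = Points.mk q := by
    intro z
    obtain ⟨t, rfl⟩ := points_yon_surj z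
    rw [← Points.ofPt_eq_map_ofScheme, ofPt_toHom]
  ext x
  constructor
  · intro hx
    obtain ⟨p, hp, -⟩ := exists_of_isPullback h x
      (Points.ofScheme q.pt (IsLocalRing.closedPoint q.K)) (by rw [hs]; exact hx)
    exact ⟨p, hp⟩
  · rintro ⟨p, rfl⟩
    rw [Set.mem_preimage, Set.mem_singleton_iff, ← Points.map_comp, h.w, Points.map_comp, hs]

theorem isConnected_fibre {P F G : Sp S} {f : F ⟶ G} (q : FieldPt G)
    {fst : P ⟶ F} {snd : P ⟶ (yon S).obj q.pt} (h : IsPullback fst snd f (toHom q))
    [ConnectedSpace (Points P)] : IsConnected (Points.map f ⁻¹' {Points.mk q}) := by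
  rw [preimage_singleton_mk q h]
  exact isConnected_range (Points.continuous_map _)

/-- Open/closed surjective with connected fibres: bijection on connected components. -/
theorem bijective_connectedComponentsMap {F G : Sp S} {f : F ⟶ G}
    (hq : IsQuotientMap (Points.map f))
    (H : ∀ (q : FieldPt G), ∃ (P : Sp S) (fst : P ⟶ F) (snd : P ⟶ (yon S).obj q.pt),
        IsPullback fst snd f (toHom q) ∧ ConnectedSpace (Points P)) :
    Function.Bijective (Continuous.connectedComponentsMap (Points.continuous_map f)) := by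
  refine hq.isCoinducing.connectedComponentsMap_bijective fun y => ?_
  induction y using Points.ind with
  | h q =>
    obtain ⟨P, a, b, h, hP⟩ := H q
    exact isConnected_fibre q h

theorem connectedSpace_yon (T : Over S) [ConnectedSpace ↥T.left] :
    ConnectedSpace (Points ((yon S).obj T)) :=
  (Points.schemeHomeo T).surjective.connectedSpace (Points.schemeHomeo T).continuous

theorem connectedSpace_yon_iff (T : Over S) :
    ConnectedSpace (Points ((yon S).obj T)) ↔ ConnectedSpace ↥T.left :=
  ⟨fun _ => (Points.schemeHomeo T).symm.surjective.connectedSpace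
    (Points.schemeHomeo T).symm.continuous, fun _ => connectedSpace_yon T⟩

end K625.Points
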