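import Groth.Agent.AlgSp.K625.Lim
import Mathlib.FieldTheory.PurelyInseparable.PerfectClosure
import Mathlib.RingTheory.Jacobson.Ring

/-!
If `X_K` is a scheme then `X_{k'}` is a scheme for a finite separable extension `k'` (helper625).
-/

set_option autoImplicit false
universe u
open CategoryTheory CategoryTheory.Limits AlgebraicGeometry Topology TopologicalSpace Opposite
open AlgSp
open scoped TensorProduct

namespace K625.SepExt

open K625.Fld K625.Prod K625.Lim

/-- Base change of a representation along a morphism of schemes. -/
theorem isRepresentable_map {S : Scheme.{u}} (X : Sp S) {T' T : Over S} (φ : T' ⟶ T)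
    (h : (X ⨯ (yon S).obj T).obj.IsRepresentable) : (X ⨯ (yon S).obj T').obj.IsRepresentable := by
  obtain ⟨M, ⟨e⟩⟩ := K610.ZarGlue.isRepresentable_iff.1 h
  obtain ⟨g, hg⟩ := (yon S).map_surjective (e.hom ≫ prod.snd)
  have sq := (IsPullback.of_hasPullback g φ).map (yon S)
  have sq1 : IsPullback ((yon _).map (pullback.fst g φ) ≫ e.hom) ((yon _).map (pullback.snd g φ))
      (prod.snd : X ⨯ (yon S).obj T ⟶ (yon S).obj T) ((yon _).map φ) :=
    IsPullback.of_iso sq (Iso.refl _) e (Iso.refl _) (Iso.refl _) (by simp) (by simp)
      (by simp [hg]) (by simp)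
  have sq2 := (isPullback_map_right X ((yon S).map φ)).flip
  exact K610.ZarGlue.isRepresentable_iff.2 ⟨_, ⟨sq1.isoIsPullback _ _ sq2⟩⟩

variable {k : Type u} [Field k]

theorem isRepresentable_algHom (X : Sp (Spec (CommRingCat.of k))) {A B : Type u} [CommRing A] [CommRing B]
    [Algebra k A] [Algebra k B] (φ : A →ₐ[k] B) (h : (bcs X A).obj.IsRepresentable) :
    (bcs X B).obj.IsRepresentable :=
  isRepresentable_map X (homOf φ) h

/-- A purely inseparable extension of extensions of `k` does not matter for representability. -/
theorem isRepresentable_of_insep_tower {X : Sp (Spec (CommRingCat.of k))} (hX : IsAlgSpace X)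
    (E L : Type u) [Field E] [Field L] [Algebra k E] [Algebra k L] [Algebra E L] [IsScalarTower k E L]
    [IsPurelyInseparable E L] (h : (bcs X L).obj.IsRepresentable) : (bcs X E).obj.IsRepresentable := by
  let φ : fld k L ⟶ fld k E := homOf (IsScalarTower.toAlgHom k E L)
  have hφ : φ.left = Spec.map (CommRingCat.ofHom (algebraMap E L)) := rfl
  have h1 : Flat φ.left := inferInstanceAs (Flat (Spec.map (CommRingCat.ofHom (algebraMap E L))))
  have h2 : Surjective φ.left := by rw [hφ]; exact surjective_specMap _
  have h3 : UniversallyOpen φ.left := by rw [hφ]; exact universallyOpen_specMap _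
  have h4 : UniversallyInjective φ.left := by rw [hφ]; exact K625.Desc.universallyInjective_specMap L
  have : IsAffine (fld k L).left := inferInstanceAs (IsAffine (Spec _))
  have : IsAffine (fld k E).left := inferInstanceAs (IsAffine (Spec _))
  exact K625.Desc2.isRepresentable_of_pb φ ⟨bcs X E, isAlgSpace_bcs hX E⟩
    (isPullback_map_right X ((yon _).map φ)).flip h

theorem exists_finite_separable {X : Sp (Spec (CommRingCat.of k))} (hX : IsAlgSpace X)
    (hqc : IsQuasiCompactSp X) (hqs : IsQuasiSeparatedSp X) (K : Type u) [CommRing K] [Nontrivial K] [Algebra k K]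
    (h : (bcs X K).obj.IsRepresentable) :
    ∃ (k' : Type u) (_ : Field k') (_ : Algebra k k'), Module.Finite k k' ∧ Algebra.IsSeparable k k' ∧
      (bcs X k').obj.IsRepresentable := by
  obtain ⟨A, hA, hr⟩ := exists_fg_isRepresentable hX hqc hqs K h
  have hft : Algebra.FiniteType k A := (Subalgebra.fg_iff_finiteType A).1 hA
  obtain ⟨m, hm⟩ := Ideal.exists_maximal A
  let κ := A ⧸ m
  let _ : Field κ := Ideal.Quotient.field m
  have hfin : Module.Finite k κ := by
    have : Algebra.FiniteType k κ := inferInstance
    exact finite_of_finite_type_of_isJacobsonRing k κ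
  have h1 : (bcs X κ).obj.IsRepresentable := isRepresentable_algHom X (Ideal.Quotient.mkₐ k m) hr
  let E := separableClosure k κ
  have h2 : (bcs X E).obj.IsRepresentable := isRepresentable_of_insep_tower hX E κ h1
  exact ⟨E, inferInstance, inferInstance, inferInstance, inferInstance, h2⟩

end K625.SepExt
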